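import Mathlib
import Cfsg.Prelude.Def_Spor_Mathieu
import Cfsg.Prelude.Def_Spor_Conway
import Cfsg.Prelude.Def_SporadicB
import Cfsg.Prelude.Def_Spor_J1
import Cfsg.Prelude.Def_Spor_J2
import Cfsg.Prelude.Def_Spor_J3
import Cfsg.Prelude.Def_SporCoxeter
import Cfsg.Prelude.Def_Spor_Suz
import Cfsg.Prelude.Def_Spor_He
import Cfsg.Prelude.Def_Spor_Ru
/-! Unique holder of the equation and congruence lemmas Lean writes on demand for these definition modules. -/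
set_option linter.all false
namespace CfOD
theorem pre2_1 : type_of% @Cfsg.Spor.squareDodecad.eq_1 := @Cfsg.Spor.squareDodecad.eq_1
theorem pre2_2 : type_of% @Cfsg.Spor.squareDodecad.eq_def := @Cfsg.Spor.squareDodecad.eq_def
theorem pre2_3 : type_of% @Cfsg.Spor.squareDodecad.congr_simp := @Cfsg.Spor.squareDodecad.congr_simp
theorem pre2_4 : type_of% @Cfsg.Spor.IsoM23.eq_1 := @Cfsg.Spor.IsoM23.eq_1
theorem pre2_5 : type_of% @Cfsg.Spor.IsoM23.eq_def := @Cfsg.Spor.IsoM23.eq_def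
theorem pre2_6 : type_of% @Cfsg.Spor.IsoM23.congr_simp := @Cfsg.Spor.IsoM23.congr_simp
theorem pre2_7 : type_of% @Cfsg.Spor.IsoM22.eq_1 := @Cfsg.Spor.IsoM22.eq_1
theorem pre2_8 : type_of% @Cfsg.Spor.IsoM22.eq_def := @Cfsg.Spor.IsoM22.eq_def
theorem pre2_9 : type_of% @Cfsg.Spor.IsoM22.congr_simp := @Cfsg.Spor.IsoM22.congr_simp
theorem pre2_10 : type_of% @Cfsg.Spor.IsoM12.eq_1 := @Cfsg.Spor.IsoM12.eq_1
theorem pre2_11 : type_of% @Cfsg.Spor.IsoM12.eq_def := @Cfsg.Spor.IsoM12.eq_def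
theorem pre2_12 : type_of% @Cfsg.Spor.IsoM12.congr_simp := @Cfsg.Spor.IsoM12.congr_simp
theorem pre2_13 : type_of% @Cfsg.Spor.IsoM11.eq_1 := @Cfsg.Spor.IsoM11.eq_1
theorem pre2_14 : type_of% @Cfsg.Spor.IsoM11.eq_def := @Cfsg.Spor.IsoM11.eq_def
theorem pre2_15 : type_of% @Cfsg.Spor.IsoM11.congr_simp := @Cfsg.Spor.IsoM11.congr_simp
theorem pre2_16 : type_of% @Cfsg.Spor.M11.eq_1 := @Cfsg.Spor.M11.eq_1
theorem pre2_17 : type_of% @Cfsg.Spor.M11.eq_def := @Cfsg.Spor.M11.eq_def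
theorem pre2_18 : type_of% @Cfsg.Spor.M11.congr_simp := @Cfsg.Spor.M11.congr_simp
theorem pre2_19 : type_of% @Cfsg.Spor.IsoM24.eq_1 := @Cfsg.Spor.IsoM24.eq_1
theorem pre2_20 : type_of% @Cfsg.Spor.IsoM24.eq_def := @Cfsg.Spor.IsoM24.eq_def
theorem pre2_21 : type_of% @Cfsg.Spor.IsoM24.congr_simp := @Cfsg.Spor.IsoM24.congr_simp
theorem pre2_22 : type_of% @Cfsg.Spor.M23.eq_1 := @Cfsg.Spor.M23.eq_1
theorem pre2_23 : type_of% @Cfsg.Spor.M23.eq_def := @Cfsg.Spor.M23.eq_def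
theorem pre2_24 : type_of% @Cfsg.Spor.M23.congr_simp := @Cfsg.Spor.M23.congr_simp
theorem pre2_25 : type_of% @Cfsg.Spor.M22.eq_1 := @Cfsg.Spor.M22.eq_1
theorem pre2_26 : type_of% @Cfsg.Spor.M22.eq_def := @Cfsg.Spor.M22.eq_def
theorem pre2_27 : type_of% @Cfsg.Spor.M22.congr_simp := @Cfsg.Spor.M22.congr_simp
theorem pre2_28 : type_of% @Cfsg.Spor.M12.eq_1 := @Cfsg.Spor.M12.eq_1
theorem pre2_29 : type_of% @Cfsg.Spor.M12.eq_def := @Cfsg.Spor.M12.eq_def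
theorem pre2_30 : type_of% @Cfsg.Spor.M12.congr_simp := @Cfsg.Spor.M12.congr_simp
theorem pre2_31 : type_of% @Cfsg.Spor.leechU'.eq_1 := @Cfsg.Spor.leechU'.eq_1
theorem pre2_32 : type_of% @Cfsg.Spor.leechU'.eq_def := @Cfsg.Spor.leechU'.eq_def
theorem pre2_33 : type_of% @Cfsg.Spor.leechU'.congr_simp := @Cfsg.Spor.leechU'.congr_simp
theorem pre2_34 : type_of% @Cfsg.Spor.IsoCo1.eq_1 := @Cfsg.Spor.IsoCo1.eq_1
theorem pre2_35 : type_of% @Cfsg.Spor.IsoCo1.eq_def := @Cfsg.Spor.IsoCo1.eq_def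
theorem pre2_36 : type_of% @Cfsg.Spor.IsoCo1.congr_simp := @Cfsg.Spor.IsoCo1.congr_simp
theorem pre2_37 : type_of% @Cfsg.Spor.vecU.eq_1 := @Cfsg.Spor.vecU.eq_1
theorem pre2_38 : type_of% @Cfsg.Spor.vecU.eq_def := @Cfsg.Spor.vecU.eq_def
theorem pre2_39 : type_of% @Cfsg.Spor.vecU.congr_simp := @Cfsg.Spor.vecU.congr_simp
theorem pre2_40 : type_of% @Cfsg.Spor.McL.eq_1 := @Cfsg.Spor.McL.eq_1
theorem pre2_41 : type_of% @Cfsg.Spor.McL.eq_def := @Cfsg.Spor.McL.eq_def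
theorem pre2_42 : type_of% @Cfsg.Spor.McL.congr_simp := @Cfsg.Spor.McL.congr_simp
theorem pre2_43 : type_of% @Cfsg.Spor.vecU'.eq_1 := @Cfsg.Spor.vecU'.eq_1
theorem pre2_44 : type_of% @Cfsg.Spor.vecU'.eq_def := @Cfsg.Spor.vecU'.eq_def
theorem pre2_45 : type_of% @Cfsg.Spor.vecU'.congr_simp := @Cfsg.Spor.vecU'.congr_simp
theorem pre2_46 : type_of% @Cfsg.Spor.leechU.eq_1 := @Cfsg.Spor.leechU.eq_1
theorem pre2_47 : type_of% @Cfsg.Spor.leechU.eq_def := @Cfsg.Spor.leechU.eq_def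
theorem pre2_48 : type_of% @Cfsg.Spor.leechU.congr_simp := @Cfsg.Spor.leechU.congr_simp
theorem pre2_49 : type_of% @Cfsg.Spor.Co1.eq_1 := @Cfsg.Spor.Co1.eq_1
theorem pre2_50 : type_of% @Cfsg.Spor.Co1.eq_def := @Cfsg.Spor.Co1.eq_def
theorem pre2_51 : type_of% @Cfsg.Spor.Co1.congr_simp := @Cfsg.Spor.Co1.congr_simp
theorem pre2_52 : type_of% @Cfsg.Spor.HS.eq_1 := @Cfsg.Spor.HS.eq_1
theorem pre2_53 : type_of% @Cfsg.Spor.HS.eq_def := @Cfsg.Spor.HS.eq_def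
theorem pre2_54 : type_of% @Cfsg.Spor.HS.congr_simp := @Cfsg.Spor.HS.congr_simp
theorem pre2_55 : type_of% @Cfsg.Spor.vecV.eq_1 := @Cfsg.Spor.vecV.eq_1
theorem pre2_56 : type_of% @Cfsg.Spor.vecV.eq_def := @Cfsg.Spor.vecV.eq_def
theorem pre2_57 : type_of% @Cfsg.Spor.vecV.congr_simp := @Cfsg.Spor.vecV.congr_simp
theorem pre2_58 : type_of% @Cfsg.Spor.leechV.eq_1 := @Cfsg.Spor.leechV.eq_1
theorem pre2_59 : type_of% @Cfsg.Spor.leechV.eq_def := @Cfsg.Spor.leechV.eq_def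
theorem pre2_60 : type_of% @Cfsg.Spor.leechV.congr_simp := @Cfsg.Spor.leechV.congr_simp
theorem pre2_61 : type_of% @Cfsg.Spor.Co2.eq_1 := @Cfsg.Spor.Co2.eq_1
theorem pre2_62 : type_of% @Cfsg.Spor.Co2.eq_def := @Cfsg.Spor.Co2.eq_def
theorem pre2_63 : type_of% @Cfsg.Spor.Co2.congr_simp := @Cfsg.Spor.Co2.congr_simp
theorem pre2_64 : type_of% @Cfsg.Spor.IsoCo2.eq_1 := @Cfsg.Spor.IsoCo2.eq_1
theorem pre2_65 : type_of% @Cfsg.Spor.IsoCo2.eq_def := @Cfsg.Spor.IsoCo2.eq_def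
theorem pre2_66 : type_of% @Cfsg.Spor.IsoCo2.congr_simp := @Cfsg.Spor.IsoCo2.congr_simp
theorem pre2_67 : type_of% @Cfsg.Spor.IsoCo3.eq_1 := @Cfsg.Spor.IsoCo3.eq_1
theorem pre2_68 : type_of% @Cfsg.Spor.IsoCo3.eq_def := @Cfsg.Spor.IsoCo3.eq_def
theorem pre2_69 : type_of% @Cfsg.Spor.IsoCo3.congr_simp := @Cfsg.Spor.IsoCo3.congr_simp
theorem pre2_70 : type_of% @Cfsg.Spor.Co3.eq_1 := @Cfsg.Spor.Co3.eq_1
theorem pre2_71 : type_of% @Cfsg.Spor.Co3.eq_def := @Cfsg.Spor.Co3.eq_def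
theorem pre2_72 : type_of% @Cfsg.Spor.Co3.congr_simp := @Cfsg.Spor.Co3.congr_simp
theorem pre2_73 : type_of% @Cfsg.Spor.IsoMcL.eq_1 := @Cfsg.Spor.IsoMcL.eq_1
theorem pre2_74 : type_of% @Cfsg.Spor.IsoMcL.eq_def := @Cfsg.Spor.IsoMcL.eq_def
theorem pre2_75 : type_of% @Cfsg.Spor.IsoMcL.congr_simp := @Cfsg.Spor.IsoMcL.congr_simp
theorem pre2_76 : type_of% @Cfsg.Spor.IsoHS.eq_1 := @Cfsg.Spor.IsoHS.eq_1
theorem pre2_77 : type_of% @Cfsg.Spor.IsoHS.eq_def := @Cfsg.Spor.IsoHS.eq_def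
theorem pre2_78 : type_of% @Cfsg.Spor.IsoHS.congr_simp := @Cfsg.Spor.IsoHS.congr_simp
theorem pre2_79 : type_of% @Cfsg.IsNonsplitDoubleCover.eq_1 := @Cfsg.IsNonsplitDoubleCover.eq_1
theorem pre2_80 : type_of% @Cfsg.IsNonsplitDoubleCover.eq_def := @Cfsg.IsNonsplitDoubleCover.eq_def
theorem pre2_81 : type_of% @Cfsg.IsNonsplitDoubleCover.congr_simp := @Cfsg.IsNonsplitDoubleCover.congr_simp
theorem pre2_82 : type_of% @Cfsg.IsTwoCentralInvolution.eq_1 := @Cfsg.IsTwoCentralInvolution.eq_1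
theorem pre2_83 : type_of% @Cfsg.IsTwoCentralInvolution.eq_def := @Cfsg.IsTwoCentralInvolution.eq_def
theorem pre2_84 : type_of% @Cfsg.IsTwoCentralInvolution.congr_simp := @Cfsg.IsTwoCentralInvolution.congr_simp
theorem pre2_85 : type_of% @Cfsg.jankoMatrixX.eq_1 := @Cfsg.jankoMatrixX.eq_1
theorem pre2_86 : type_of% @Cfsg.jankoMatrixX.eq_def := @Cfsg.jankoMatrixX.eq_def
theorem pre2_87 : type_of% @Cfsg.jankoMatrixX.congr_simp := @Cfsg.jankoMatrixX.congr_simp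
theorem pre2_88 : type_of% @Cfsg.IsThreeTranspositionSet.eq_1 := @Cfsg.IsThreeTranspositionSet.eq_1
theorem pre2_89 : type_of% @Cfsg.IsThreeTranspositionSet.eq_def := @Cfsg.IsThreeTranspositionSet.eq_def
theorem pre2_90 : type_of% @Cfsg.IsThreeTranspositionSet.congr_simp := @Cfsg.IsThreeTranspositionSet.congr_simp
theorem pre2_91 : type_of% @Cfsg.IsThreeTranspositionClass.eq_1 := @Cfsg.IsThreeTranspositionClass.eq_1
theorem pre2_92 : type_of% @Cfsg.IsThreeTranspositionClass.eq_def := @Cfsg.IsThreeTranspositionClass.eq_def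
theorem pre2_93 : type_of% @Cfsg.IsThreeTranspositionClass.congr_simp := @Cfsg.IsThreeTranspositionClass.congr_simp
theorem pre2_94 : type_of% @Cfsg.jankoMatrixY.eq_1 := @Cfsg.jankoMatrixY.eq_1
theorem pre2_95 : type_of% @Cfsg.jankoMatrixY.eq_def := @Cfsg.jankoMatrixY.eq_def
theorem pre2_96 : type_of% @Cfsg.jankoMatrixY.congr_simp := @Cfsg.jankoMatrixY.congr_simp
theorem pre2_97 : type_of% @Cfsg.Spor.jankoY.eq_1 := @Cfsg.Spor.jankoY.eq_1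
theorem pre2_98 : type_of% @Cfsg.Spor.jankoY.eq_def := @Cfsg.Spor.jankoY.eq_def
theorem pre2_99 : type_of% @Cfsg.Spor.jankoY.congr_simp := @Cfsg.Spor.jankoY.congr_simp
theorem pre2_100 : type_of% @Cfsg.Spor.jankoX.eq_1 := @Cfsg.Spor.jankoX.eq_1
theorem pre2_101 : type_of% @Cfsg.Spor.jankoX.eq_def := @Cfsg.Spor.jankoX.eq_def
theorem pre2_102 : type_of% @Cfsg.Spor.jankoX.congr_simp := @Cfsg.Spor.jankoX.congr_simp
theorem pre2_103 : type_of% @Cfsg.Spor.IsoJ1.eq_1 := @Cfsg.Spor.IsoJ1.eq_1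
theorem pre2_104 : type_of% @Cfsg.Spor.IsoJ1.eq_def := @Cfsg.Spor.IsoJ1.eq_def
theorem pre2_105 : type_of% @Cfsg.Spor.IsoJ1.congr_simp := @Cfsg.Spor.IsoJ1.congr_simp
theorem pre2_106 : type_of% @Cfsg.Spor.J1.eq_1 := @Cfsg.Spor.J1.eq_1
theorem pre2_107 : type_of% @Cfsg.Spor.J1.eq_def := @Cfsg.Spor.J1.eq_def
theorem pre2_108 : type_of% @Cfsg.Spor.J1.congr_simp := @Cfsg.Spor.J1.congr_simp
theorem pre2_109 : type_of% @Cfsg.Spor.IsIcoReflection.eq_1 := @Cfsg.Spor.IsIcoReflection.eq_1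
theorem pre2_110 : type_of% @Cfsg.Spor.IsIcoReflection.eq_def := @Cfsg.Spor.IsIcoReflection.eq_def
theorem pre2_111 : type_of% @Cfsg.Spor.IsIcoReflection.congr_simp := @Cfsg.Spor.IsIcoReflection.congr_simp
theorem pre2_112 : type_of% @Cfsg.Spor.twoJ2.eq_1 := @Cfsg.Spor.twoJ2.eq_1
theorem pre2_113 : type_of% @Cfsg.Spor.twoJ2.eq_def := @Cfsg.Spor.twoJ2.eq_def
theorem pre2_114 : type_of% @Cfsg.Spor.twoJ2.congr_simp := @Cfsg.Spor.twoJ2.congr_simp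
theorem pre2_115 : type_of% @Cfsg.Spor.icoH.eq_1 := @Cfsg.Spor.icoH.eq_1
theorem pre2_116 : type_of% @Cfsg.Spor.icoH.eq_def := @Cfsg.Spor.icoH.eq_def
theorem pre2_117 : type_of% @Cfsg.Spor.icoH.congr_simp := @Cfsg.Spor.icoH.congr_simp
theorem pre2_118 : type_of% @Cfsg.Spor.qrefl.eq_1 := @Cfsg.Spor.qrefl.eq_1
theorem pre2_119 : type_of% @Cfsg.Spor.qrefl.eq_def := @Cfsg.Spor.qrefl.eq_def
theorem pre2_120 : type_of% @Cfsg.Spor.qrefl.congr_simp := @Cfsg.Spor.qrefl.congr_simp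
theorem pre2_121 : type_of% @Cfsg.Spor.sig.eq_1 := @Cfsg.Spor.sig.eq_1
theorem pre2_122 : type_of% @Cfsg.Spor.sig.eq_def := @Cfsg.Spor.sig.eq_def
theorem pre2_123 : type_of% @Cfsg.Spor.sig.congr_simp := @Cfsg.Spor.sig.congr_simp
theorem pre2_124 : type_of% @Cfsg.Spor.tau.eq_1 := @Cfsg.Spor.tau.eq_1
theorem pre2_125 : type_of% @Cfsg.Spor.tau.eq_def := @Cfsg.Spor.tau.eq_def
theorem pre2_126 : type_of% @Cfsg.Spor.tau.congr_simp := @Cfsg.Spor.tau.congr_simp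
theorem pre2_127 : type_of% @Cfsg.Spor.J2.eq_1 := @Cfsg.Spor.J2.eq_1
theorem pre2_128 : type_of% @Cfsg.Spor.J2.eq_def := @Cfsg.Spor.J2.eq_def
theorem pre2_129 : type_of% @Cfsg.Spor.J2.congr_simp := @Cfsg.Spor.J2.congr_simp
theorem pre2_130 : type_of% @Cfsg.Spor.qip.eq_1 := @Cfsg.Spor.qip.eq_1
theorem pre2_131 : type_of% @Cfsg.Spor.qip.eq_def := @Cfsg.Spor.qip.eq_def
theorem pre2_132 : type_of% @Cfsg.Spor.qip.congr_simp := @Cfsg.Spor.qip.congr_simp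
theorem pre2_133 : type_of% @Cfsg.Spor.IsoJ2.eq_1 := @Cfsg.Spor.IsoJ2.eq_1
theorem pre2_134 : type_of% @Cfsg.Spor.IsoJ2.eq_def := @Cfsg.Spor.IsoJ2.eq_def
theorem pre2_135 : type_of% @Cfsg.Spor.IsoJ2.congr_simp := @Cfsg.Spor.IsoJ2.congr_simp
theorem pre2_136 : type_of% @Cfsg.Spor.icosians.eq_1 := @Cfsg.Spor.icosians.eq_1
theorem pre2_137 : type_of% @Cfsg.Spor.icosians.eq_def := @Cfsg.Spor.icosians.eq_def
theorem pre2_138 : type_of% @Cfsg.Spor.icosians.congr_simp := @Cfsg.Spor.icosians.congr_simp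
theorem pre2_139 : type_of% @Cfsg.Spor.qI.eq_1 := @Cfsg.Spor.qI.eq_1
theorem pre2_140 : type_of% @Cfsg.Spor.qI.eq_def := @Cfsg.Spor.qI.eq_def
theorem pre2_141 : type_of% @Cfsg.Spor.qI.congr_simp := @Cfsg.Spor.qI.congr_simp
theorem pre2_142 : type_of% @Cfsg.Spor.leftIdeal.eq_1 := @Cfsg.Spor.leftIdeal.eq_1
theorem pre2_143 : type_of% @Cfsg.Spor.leftIdeal.eq_def := @Cfsg.Spor.leftIdeal.eq_def
theorem pre2_144 : type_of% @Cfsg.Spor.leftIdeal.congr_simp := @Cfsg.Spor.leftIdeal.congr_simp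
theorem pre2_145 : type_of% @Cfsg.Spor.icoLeech.eq_1 := @Cfsg.Spor.icoLeech.eq_1
theorem pre2_146 : type_of% @Cfsg.Spor.icoLeech.eq_def := @Cfsg.Spor.icoLeech.eq_def
theorem pre2_147 : type_of% @Cfsg.Spor.icoLeech.congr_simp := @Cfsg.Spor.icoLeech.congr_simp
theorem pre2_148 : type_of% @Cfsg.Spor.F9.eq_1 := @Cfsg.Spor.F9.eq_1
theorem pre2_149 : type_of% @Cfsg.Spor.F9.eq_def := @Cfsg.Spor.F9.eq_def
theorem pre2_150 : type_of% @Cfsg.Spor.F9.congr_simp := @Cfsg.Spor.F9.congr_simp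
theorem pre2_151 : type_of% @Cfsg.Spor.omegaPow.eq_1 := @Cfsg.Spor.omegaPow.eq_1
theorem pre2_152 : type_of% @Cfsg.Spor.omegaPow.eq_def := @Cfsg.Spor.omegaPow.eq_def
theorem pre2_153 : type_of% @Cfsg.Spor.omegaPow.congr_simp := @Cfsg.Spor.omegaPow.congr_simp
theorem pre2_154 : type_of% @Cfsg.Spor.j3A.eq_1 := @Cfsg.Spor.j3A.eq_1
theorem pre2_155 : type_of% @Cfsg.Spor.j3A.eq_def := @Cfsg.Spor.j3A.eq_def
theorem pre2_156 : type_of% @Cfsg.Spor.j3A.congr_simp := @Cfsg.Spor.j3A.congr_simp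
theorem pre2_157 : type_of% @Cfsg.Spor.F9.I.eq_1 := @Cfsg.Spor.F9.I.eq_1
theorem pre2_158 : type_of% @Cfsg.Spor.F9.I.eq_def := @Cfsg.Spor.F9.I.eq_def
theorem pre2_159 : type_of% @Cfsg.Spor.F9.I.congr_simp := @Cfsg.Spor.F9.I.congr_simp
theorem pre2_160 : type_of% @Cfsg.Spor.F9.mul.eq_1 := @Cfsg.Spor.F9.mul.eq_1
theorem pre2_161 : type_of% @Cfsg.Spor.F9.mul.eq_def := @Cfsg.Spor.F9.mul.eq_def
theorem pre2_162 : type_of% @Cfsg.Spor.F9.mul.congr_simp := @Cfsg.Spor.F9.mul.congr_simp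
theorem pre2_163 : type_of% @Cfsg.Spor.j3D.eq_1 := @Cfsg.Spor.j3D.eq_1
theorem pre2_164 : type_of% @Cfsg.Spor.j3D.eq_def := @Cfsg.Spor.j3D.eq_def
theorem pre2_165 : type_of% @Cfsg.Spor.j3D.congr_simp := @Cfsg.Spor.j3D.congr_simp
theorem pre2_166 : type_of% @Cfsg.Spor.j3C.eq_1 := @Cfsg.Spor.j3C.eq_1
theorem pre2_167 : type_of% @Cfsg.Spor.j3C.eq_def := @Cfsg.Spor.j3C.eq_def
theorem pre2_168 : type_of% @Cfsg.Spor.j3C.congr_simp := @Cfsg.Spor.j3C.congr_simp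
theorem pre2_169 : type_of% @Cfsg.Spor.j3E.eq_1 := @Cfsg.Spor.j3E.eq_1
theorem pre2_170 : type_of% @Cfsg.Spor.j3E.eq_def := @Cfsg.Spor.j3E.eq_def
theorem pre2_171 : type_of% @Cfsg.Spor.j3E.congr_simp := @Cfsg.Spor.j3E.congr_simp
theorem pre2_172 : type_of% @Cfsg.Spor.F9.one.eq_1 := @Cfsg.Spor.F9.one.eq_1
theorem pre2_173 : type_of% @Cfsg.Spor.F9.one.eq_def := @Cfsg.Spor.F9.one.eq_def
theorem pre2_174 : type_of% @Cfsg.Spor.F9.one.congr_simp := @Cfsg.Spor.F9.one.congr_simp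
theorem pre2_175 : type_of% @Cfsg.Spor.F9.inv.eq_1 := @Cfsg.Spor.F9.inv.eq_1
theorem pre2_176 : type_of% @Cfsg.Spor.F9.inv.eq_def := @Cfsg.Spor.F9.inv.eq_def
theorem pre2_177 : type_of% @Cfsg.Spor.F9.inv.congr_simp := @Cfsg.Spor.F9.inv.congr_simp
theorem pre2_178 : type_of% @Cfsg.Spor.j3Gens.eq_1 := @Cfsg.Spor.j3Gens.eq_1
theorem pre2_179 : type_of% @Cfsg.Spor.j3Gens.eq_def := @Cfsg.Spor.j3Gens.eq_def
theorem pre2_180 : type_of% @Cfsg.Spor.j3Gens.congr_simp := @Cfsg.Spor.j3Gens.congr_simp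
theorem pre2_181 : type_of% @Cfsg.Spor.j3Lam.eq_1 := @Cfsg.Spor.j3Lam.eq_1
theorem pre2_182 : type_of% @Cfsg.Spor.j3Lam.eq_def := @Cfsg.Spor.j3Lam.eq_def
theorem pre2_183 : type_of% @Cfsg.Spor.j3Lam.congr_simp := @Cfsg.Spor.j3Lam.congr_simp
theorem pre2_184 : type_of% @Cfsg.Spor.j3B.eq_1 := @Cfsg.Spor.j3B.eq_1
theorem pre2_185 : type_of% @Cfsg.Spor.j3B.eq_def := @Cfsg.Spor.j3B.eq_def
theorem pre2_186 : type_of% @Cfsg.Spor.j3B.congr_simp := @Cfsg.Spor.j3B.congr_simp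
theorem pre2_187 : type_of% @Cfsg.Spor.threeJ3.eq_1 := @Cfsg.Spor.threeJ3.eq_1
theorem pre2_188 : type_of% @Cfsg.Spor.threeJ3.eq_def := @Cfsg.Spor.threeJ3.eq_def
theorem pre2_189 : type_of% @Cfsg.Spor.threeJ3.congr_simp := @Cfsg.Spor.threeJ3.congr_simp
theorem pre2_190 : type_of% @Cfsg.Spor.IsoJ3.eq_1 := @Cfsg.Spor.IsoJ3.eq_1
theorem pre2_191 : type_of% @Cfsg.Spor.IsoJ3.eq_def := @Cfsg.Spor.IsoJ3.eq_def
theorem pre2_192 : type_of% @Cfsg.Spor.IsoJ3.congr_simp := @Cfsg.Spor.IsoJ3.congr_simp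
theorem pre2_193 : type_of% @Cfsg.Spor.F9.div.eq_1 := @Cfsg.Spor.F9.div.eq_1
theorem pre2_194 : type_of% @Cfsg.Spor.F9.div.eq_def := @Cfsg.Spor.F9.div.eq_def
theorem pre2_195 : type_of% @Cfsg.Spor.F9.div.congr_simp := @Cfsg.Spor.F9.div.congr_simp
theorem pre2_196 : type_of% @Cfsg.Spor.J3.eq_1 := @Cfsg.Spor.J3.eq_1
theorem pre2_197 : type_of% @Cfsg.Spor.J3.eq_def := @Cfsg.Spor.J3.eq_def
theorem pre2_198 : type_of% @Cfsg.Spor.J3.congr_simp := @Cfsg.Spor.J3.congr_simp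
theorem pre2_199 : type_of% @Cfsg.Spor.coxNodes.eq_1 := @Cfsg.Spor.coxNodes.eq_1
theorem pre2_200 : type_of% @Cfsg.Spor.coxNodes.eq_def := @Cfsg.Spor.coxNodes.eq_def
theorem pre2_201 : type_of% @Cfsg.Spor.coxNodes.congr_simp := @Cfsg.Spor.coxNodes.congr_simp
theorem pre2_202 : type_of% @Cfsg.Spor.coxLabel.eq_1 := @Cfsg.Spor.coxLabel.eq_1
theorem pre2_203 : type_of% @Cfsg.Spor.coxLabel.eq_def := @Cfsg.Spor.coxLabel.eq_def
theorem pre2_204 : type_of% @Cfsg.Spor.coxLabel.congr_simp := @Cfsg.Spor.coxLabel.congr_simp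
theorem pre2_205 : type_of% @Cfsg.Spor.CoxPresented.eq_1 := @Cfsg.Spor.CoxPresented.eq_1
theorem pre2_206 : type_of% @Cfsg.Spor.CoxPresented.eq_def := @Cfsg.Spor.CoxPresented.eq_def
theorem pre2_207 : type_of% @Cfsg.Spor.CoxPresented.congr_simp := @Cfsg.Spor.CoxPresented.congr_simp
theorem pre2_208 : type_of% @Cfsg.Spor.coxRelators.eq_1 := @Cfsg.Spor.coxRelators.eq_1
theorem pre2_209 : type_of% @Cfsg.Spor.coxRelators.eq_def := @Cfsg.Spor.coxRelators.eq_def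
theorem pre2_210 : type_of% @Cfsg.Spor.coxRelators.congr_simp := @Cfsg.Spor.coxRelators.congr_simp
theorem pre2_211 : type_of% @Cfsg.Spor.Suz.e.eq_1 := @Cfsg.Spor.Suz.e.eq_1
theorem pre2_212 : type_of% @Cfsg.Spor.Suz.e.eq_def := @Cfsg.Spor.Suz.e.eq_def
theorem pre2_213 : type_of% @Cfsg.Spor.Suz.e.congr_simp := @Cfsg.Spor.Suz.e.congr_simp
theorem pre2_214 : type_of% @Cfsg.Spor.Suz.Gen.noConfusionType.eq_1 := @Cfsg.Spor.Suz.Gen.noConfusionType.eq_1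
theorem pre2_215 : type_of% @Cfsg.Spor.Suz.Gen.noConfusionType.eq_def := @Cfsg.Spor.Suz.Gen.noConfusionType.eq_def
theorem pre2_216 : type_of% @Cfsg.Spor.Suz.Gen.noConfusionType.congr_simp := @Cfsg.Spor.Suz.Gen.noConfusionType.congr_simp
theorem pre2_217 : type_of% @Cfsg.Spor.IsoSuz.eq_1 := @Cfsg.Spor.IsoSuz.eq_1
theorem pre2_218 : type_of% @Cfsg.Spor.IsoSuz.eq_def := @Cfsg.Spor.IsoSuz.eq_def
theorem pre2_219 : type_of% @Cfsg.Spor.IsoSuz.congr_simp := @Cfsg.Spor.IsoSuz.congr_simp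
theorem pre2_220 : type_of% @Cfsg.Spor.Suz.g.eq_1 := @Cfsg.Spor.Suz.g.eq_1
theorem pre2_221 : type_of% @Cfsg.Spor.Suz.g.eq_def := @Cfsg.Spor.Suz.g.eq_def
theorem pre2_222 : type_of% @Cfsg.Spor.Suz.g.congr_simp := @Cfsg.Spor.Suz.g.congr_simp
theorem pre2_223 : type_of% @Cfsg.Spor.Suz.edges.eq_1 := @Cfsg.Spor.Suz.edges.eq_1
theorem pre2_224 : type_of% @Cfsg.Spor.Suz.edges.eq_def := @Cfsg.Spor.Suz.edges.eq_def
theorem pre2_225 : type_of% @Cfsg.Spor.Suz.edges.congr_simp := @Cfsg.Spor.Suz.edges.congr_simp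
theorem pre2_226 : type_of% @Cfsg.Spor.Suz.extra.eq_1 := @Cfsg.Spor.Suz.extra.eq_1
theorem pre2_227 : type_of% @Cfsg.Spor.Suz.extra.eq_def := @Cfsg.Spor.Suz.extra.eq_def
theorem pre2_228 : type_of% @Cfsg.Spor.Suz.extra.congr_simp := @Cfsg.Spor.Suz.extra.congr_simp
theorem pre2_229 : type_of% @Cfsg.Spor.Suz.eq_1 := @Cfsg.Spor.Suz.eq_1
theorem pre2_230 : type_of% @Cfsg.Spor.Suz.eq_def := @Cfsg.Spor.Suz.eq_def
theorem pre2_231 : type_of% @Cfsg.Spor.Suz.congr_simp := @Cfsg.Spor.Suz.congr_simp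
theorem pre2_232 : type_of% @Cfsg.Spor.Suz.d.eq_1 := @Cfsg.Spor.Suz.d.eq_1
theorem pre2_233 : type_of% @Cfsg.Spor.Suz.d.eq_def := @Cfsg.Spor.Suz.d.eq_def
theorem pre2_234 : type_of% @Cfsg.Spor.Suz.d.congr_simp := @Cfsg.Spor.Suz.d.congr_simp
theorem pre2_235 : type_of% @Cfsg.Spor.Suz.c.eq_1 := @Cfsg.Spor.Suz.c.eq_1
theorem pre2_236 : type_of% @Cfsg.Spor.Suz.c.eq_def := @Cfsg.Spor.Suz.c.eq_def
theorem pre2_237 : type_of% @Cfsg.Spor.Suz.c.congr_simp := @Cfsg.Spor.Suz.c.congr_simp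
theorem pre2_238 : type_of% @Cfsg.Spor.Suz.Gen.ctorElimType.eq_1 := @Cfsg.Spor.Suz.Gen.ctorElimType.eq_1
theorem pre2_239 : type_of% @Cfsg.Spor.Suz.Gen.ctorElimType.eq_def := @Cfsg.Spor.Suz.Gen.ctorElimType.eq_def
theorem pre2_240 : type_of% @Cfsg.Spor.Suz.Gen.ctorElimType.congr_simp := @Cfsg.Spor.Suz.Gen.ctorElimType.congr_simp
theorem pre2_241 : type_of% @Cfsg.Spor.Suz.b.eq_1 := @Cfsg.Spor.Suz.b.eq_1
theorem pre2_242 : type_of% @Cfsg.Spor.Suz.b.eq_def := @Cfsg.Spor.Suz.b.eq_def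
theorem pre2_243 : type_of% @Cfsg.Spor.Suz.b.congr_simp := @Cfsg.Spor.Suz.b.congr_simp
theorem pre2_244 : type_of% @Cfsg.Spor.Suz.instDecidableEqGen.eq_1 := @Cfsg.Spor.Suz.instDecidableEqGen.eq_1
theorem pre2_245 : type_of% @Cfsg.Spor.Suz.instDecidableEqGen.eq_def := @Cfsg.Spor.Suz.instDecidableEqGen.eq_def
theorem pre2_246 : type_of% @Cfsg.Spor.Suz.instDecidableEqGen.congr_simp := @Cfsg.Spor.Suz.instDecidableEqGen.congr_simp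
theorem pre2_247 : type_of% @Cfsg.Spor.Suz.f.eq_1 := @Cfsg.Spor.Suz.f.eq_1
theorem pre2_248 : type_of% @Cfsg.Spor.Suz.f.eq_def := @Cfsg.Spor.Suz.f.eq_def
theorem pre2_249 : type_of% @Cfsg.Spor.Suz.f.congr_simp := @Cfsg.Spor.Suz.f.congr_simp
theorem pre2_250 : type_of% @Cfsg.Spor.Suz.Gen.ctorIdx.eq_1 := @Cfsg.Spor.Suz.Gen.ctorIdx.eq_1
theorem pre2_251 : type_of% @Cfsg.Spor.Suz.Gen.ctorIdx.eq_def := @Cfsg.Spor.Suz.Gen.ctorIdx.eq_def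
theorem pre2_252 : type_of% @Cfsg.Spor.Suz.Gen.ctorIdx.congr_simp := @Cfsg.Spor.Suz.Gen.ctorIdx.congr_simp
theorem pre2_253 : type_of% @Cfsg.Spor.Suz.Gen.toCtorIdx.eq_1 := @Cfsg.Spor.Suz.Gen.toCtorIdx.eq_1
theorem pre2_254 : type_of% @Cfsg.Spor.Suz.Gen.toCtorIdx.eq_def := @Cfsg.Spor.Suz.Gen.toCtorIdx.eq_def
theorem pre2_255 : type_of% @Cfsg.Spor.Suz.Gen.toCtorIdx.congr_simp := @Cfsg.Spor.Suz.Gen.toCtorIdx.congr_simp
theorem pre2_256 : type_of% @Cfsg.Spor.Suz.Gen.ofNat.eq_1 := @Cfsg.Spor.Suz.Gen.ofNat.eq_1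
theorem pre2_257 : type_of% @Cfsg.Spor.Suz.Gen.ofNat.eq_def := @Cfsg.Spor.Suz.Gen.ofNat.eq_def
theorem pre2_258 : type_of% @Cfsg.Spor.Suz.Gen.ofNat.congr_simp := @Cfsg.Spor.Suz.Gen.ofNat.congr_simp
theorem pre2_259 : type_of% @Cfsg.Spor.Suz.a.eq_1 := @Cfsg.Spor.Suz.a.eq_1
theorem pre2_260 : type_of% @Cfsg.Spor.Suz.a.eq_def := @Cfsg.Spor.Suz.a.eq_def
theorem pre2_261 : type_of% @Cfsg.Spor.Suz.a.congr_simp := @Cfsg.Spor.Suz.a.congr_simp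
theorem pre2_262 : type_of% @Cfsg.Spor.He.Gen.noConfusionType.eq_1 := @Cfsg.Spor.He.Gen.noConfusionType.eq_1
theorem pre2_263 : type_of% @Cfsg.Spor.He.Gen.noConfusionType.eq_def := @Cfsg.Spor.He.Gen.noConfusionType.eq_def
theorem pre2_264 : type_of% @Cfsg.Spor.He.Gen.noConfusionType.congr_simp := @Cfsg.Spor.He.Gen.noConfusionType.congr_simp
theorem pre2_265 : type_of% @Cfsg.Spor.He.Gen.ctorElimType.eq_1 := @Cfsg.Spor.He.Gen.ctorElimType.eq_1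
theorem pre2_266 : type_of% @Cfsg.Spor.He.Gen.ctorElimType.eq_def := @Cfsg.Spor.He.Gen.ctorElimType.eq_def
theorem pre2_267 : type_of% @Cfsg.Spor.He.Gen.ctorElimType.congr_simp := @Cfsg.Spor.He.Gen.ctorElimType.congr_simp
theorem pre2_268 : type_of% @Cfsg.Spor.He.e.eq_1 := @Cfsg.Spor.He.e.eq_1
theorem pre2_269 : type_of% @Cfsg.Spor.He.e.eq_def := @Cfsg.Spor.He.e.eq_def
theorem pre2_270 : type_of% @Cfsg.Spor.He.e.congr_simp := @Cfsg.Spor.He.e.congr_simp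
theorem pre2_271 : type_of% @Cfsg.Spor.He.Gen.toCtorIdx.eq_1 := @Cfsg.Spor.He.Gen.toCtorIdx.eq_1
theorem pre2_272 : type_of% @Cfsg.Spor.He.Gen.toCtorIdx.eq_def := @Cfsg.Spor.He.Gen.toCtorIdx.eq_def
theorem pre2_273 : type_of% @Cfsg.Spor.He.Gen.toCtorIdx.congr_simp := @Cfsg.Spor.He.Gen.toCtorIdx.congr_simp
theorem pre2_274 : type_of% @Cfsg.Spor.He.Gen.ofNat.eq_1 := @Cfsg.Spor.He.Gen.ofNat.eq_1
theorem pre2_275 : type_of% @Cfsg.Spor.He.Gen.ofNat.eq_def := @Cfsg.Spor.He.Gen.ofNat.eq_def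
theorem pre2_276 : type_of% @Cfsg.Spor.He.Gen.ofNat.congr_simp := @Cfsg.Spor.He.Gen.ofNat.congr_simp
theorem pre2_277 : type_of% @Cfsg.Spor.He.g.eq_1 := @Cfsg.Spor.He.g.eq_1
theorem pre2_278 : type_of% @Cfsg.Spor.He.g.eq_def := @Cfsg.Spor.He.g.eq_def
theorem pre2_279 : type_of% @Cfsg.Spor.He.g.congr_simp := @Cfsg.Spor.He.g.congr_simp
theorem pre2_280 : type_of% @Cfsg.Spor.He.Gen.ctorIdx.eq_1 := @Cfsg.Spor.He.Gen.ctorIdx.eq_1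
theorem pre2_281 : type_of% @Cfsg.Spor.He.Gen.ctorIdx.eq_def := @Cfsg.Spor.He.Gen.ctorIdx.eq_def
theorem pre2_282 : type_of% @Cfsg.Spor.He.Gen.ctorIdx.congr_simp := @Cfsg.Spor.He.Gen.ctorIdx.congr_simp
theorem pre2_283 : type_of% @Cfsg.Spor.He.edges.eq_1 := @Cfsg.Spor.He.edges.eq_1
theorem pre2_284 : type_of% @Cfsg.Spor.He.edges.eq_def := @Cfsg.Spor.He.edges.eq_def
theorem pre2_285 : type_of% @Cfsg.Spor.He.edges.congr_simp := @Cfsg.Spor.He.edges.congr_simp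
theorem pre2_286 : type_of% @Cfsg.Spor.He.extra.eq_1 := @Cfsg.Spor.He.extra.eq_1
theorem pre2_287 : type_of% @Cfsg.Spor.He.extra.eq_def := @Cfsg.Spor.He.extra.eq_def
theorem pre2_288 : type_of% @Cfsg.Spor.He.extra.congr_simp := @Cfsg.Spor.He.extra.congr_simp
theorem pre2_289 : type_of% @Cfsg.Spor.He.d.eq_1 := @Cfsg.Spor.He.d.eq_1
theorem pre2_290 : type_of% @Cfsg.Spor.He.d.eq_def := @Cfsg.Spor.He.d.eq_def
theorem pre2_291 : type_of% @Cfsg.Spor.He.d.congr_simp := @Cfsg.Spor.He.d.congr_simp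
theorem pre2_292 : type_of% @Cfsg.Spor.He.b.eq_1 := @Cfsg.Spor.He.b.eq_1
theorem pre2_293 : type_of% @Cfsg.Spor.He.b.eq_def := @Cfsg.Spor.He.b.eq_def
theorem pre2_294 : type_of% @Cfsg.Spor.He.b.congr_simp := @Cfsg.Spor.He.b.congr_simp
theorem pre2_295 : type_of% @Cfsg.Spor.He.c.eq_1 := @Cfsg.Spor.He.c.eq_1
theorem pre2_296 : type_of% @Cfsg.Spor.He.c.eq_def := @Cfsg.Spor.He.c.eq_def
theorem pre2_297 : type_of% @Cfsg.Spor.He.c.congr_simp := @Cfsg.Spor.He.c.congr_simp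
theorem pre2_298 : type_of% @Cfsg.Spor.He.f.eq_1 := @Cfsg.Spor.He.f.eq_1
theorem pre2_299 : type_of% @Cfsg.Spor.He.f.eq_def := @Cfsg.Spor.He.f.eq_def
theorem pre2_300 : type_of% @Cfsg.Spor.He.f.congr_simp := @Cfsg.Spor.He.f.congr_simp
theorem pre2_301 : type_of% @Cfsg.Spor.He.a.eq_1 := @Cfsg.Spor.He.a.eq_1
theorem pre2_302 : type_of% @Cfsg.Spor.He.a.eq_def := @Cfsg.Spor.He.a.eq_def
theorem pre2_303 : type_of% @Cfsg.Spor.He.a.congr_simp := @Cfsg.Spor.He.a.congr_simp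
theorem pre2_304 : type_of% @Cfsg.Spor.He.eq_1 := @Cfsg.Spor.He.eq_1
theorem pre2_305 : type_of% @Cfsg.Spor.He.eq_def := @Cfsg.Spor.He.eq_def
theorem pre2_306 : type_of% @Cfsg.Spor.He.congr_simp := @Cfsg.Spor.He.congr_simp
theorem pre2_307 : type_of% @Cfsg.Spor.IsoHe.eq_1 := @Cfsg.Spor.IsoHe.eq_1
theorem pre2_308 : type_of% @Cfsg.Spor.IsoHe.eq_def := @Cfsg.Spor.IsoHe.eq_def
theorem pre2_309 : type_of% @Cfsg.Spor.IsoHe.congr_simp := @Cfsg.Spor.IsoHe.congr_simp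
theorem pre2_310 : type_of% @Cfsg.Spor.He.instDecidableEqGen.eq_1 := @Cfsg.Spor.He.instDecidableEqGen.eq_1
theorem pre2_311 : type_of% @Cfsg.Spor.He.instDecidableEqGen.eq_def := @Cfsg.Spor.He.instDecidableEqGen.eq_def
theorem pre2_312 : type_of% @Cfsg.Spor.He.instDecidableEqGen.congr_simp := @Cfsg.Spor.He.instDecidableEqGen.congr_simp
theorem pre2_313 : type_of% @Cfsg.Spor.ruRk.eq_1 := @Cfsg.Spor.ruRk.eq_1
theorem pre2_314 : type_of% @Cfsg.Spor.ruRk.eq_def := @Cfsg.Spor.ruRk.eq_def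
theorem pre2_315 : type_of% @Cfsg.Spor.ruRk.congr_simp := @Cfsg.Spor.ruRk.congr_simp
theorem pre2_316 : type_of% @Cfsg.Spor.RuIdx.eq_1 := @Cfsg.Spor.RuIdx.eq_1
theorem pre2_317 : type_of% @Cfsg.Spor.RuIdx.eq_def := @Cfsg.Spor.RuIdx.eq_def
theorem pre2_318 : type_of% @Cfsg.Spor.RuIdx.congr_simp := @Cfsg.Spor.RuIdx.congr_simp
theorem pre2_319 : type_of% @Cfsg.Spor.Ru.eq_1 := @Cfsg.Spor.Ru.eq_1
theorem pre2_320 : type_of% @Cfsg.Spor.Ru.eq_def := @Cfsg.Spor.Ru.eq_def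
theorem pre2_321 : type_of% @Cfsg.Spor.Ru.congr_simp := @Cfsg.Spor.Ru.congr_simp
theorem pre2_322 : type_of% @Cfsg.Spor.ruOfArray.eq_1 := @Cfsg.Spor.ruOfArray.eq_1
theorem pre2_323 : type_of% @Cfsg.Spor.ruOfArray.eq_def := @Cfsg.Spor.ruOfArray.eq_def
theorem pre2_324 : type_of% @Cfsg.Spor.ruOfArray.congr_simp := @Cfsg.Spor.ruOfArray.congr_simp
theorem pre2_325 : type_of% @Cfsg.Spor.ruLattice.eq_def := @Cfsg.Spor.ruLattice.eq_def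
theorem pre2_326 : type_of% @Cfsg.Spor.ruLattice.congr_simp := @Cfsg.Spor.ruLattice.congr_simp
theorem pre2_327 : type_of% @Cfsg.Spor.RuVec.eq_1 := @Cfsg.Spor.RuVec.eq_1
theorem pre2_328 : type_of% @Cfsg.Spor.RuVec.eq_def := @Cfsg.Spor.RuVec.eq_def
theorem pre2_329 : type_of% @Cfsg.Spor.RuVec.congr_simp := @Cfsg.Spor.RuVec.congr_simp
theorem pre2_330 : type_of% @Cfsg.Spor.ruSign.eq_1 := @Cfsg.Spor.ruSign.eq_1
theorem pre2_331 : type_of% @Cfsg.Spor.ruSign.eq_def := @Cfsg.Spor.ruSign.eq_def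
theorem pre2_332 : type_of% @Cfsg.Spor.ruSign.congr_simp := @Cfsg.Spor.ruSign.congr_simp
theorem pre2_333 : type_of% @Cfsg.Spor.ruTable.eq_1 := @Cfsg.Spor.ruTable.eq_1
theorem pre2_334 : type_of% @Cfsg.Spor.ruTable.eq_def := @Cfsg.Spor.ruTable.eq_def
theorem pre2_335 : type_of% @Cfsg.Spor.ruTable.congr_simp := @Cfsg.Spor.ruTable.congr_simp
theorem pre2_336 : type_of% @Cfsg.Spor.ruNorm.eq_1 := @Cfsg.Spor.ruNorm.eq_1
theorem pre2_337 : type_of% @Cfsg.Spor.ruNorm.eq_def := @Cfsg.Spor.ruNorm.eq_def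
theorem pre2_338 : type_of% @Cfsg.Spor.ruNorm.congr_simp := @Cfsg.Spor.ruNorm.congr_simp
theorem pre2_339 : type_of% @Cfsg.Spor.ruRj.eq_1 := @Cfsg.Spor.ruRj.eq_1
theorem pre2_340 : type_of% @Cfsg.Spor.ruRj.eq_def := @Cfsg.Spor.ruRj.eq_def
theorem pre2_341 : type_of% @Cfsg.Spor.ruRj.congr_simp := @Cfsg.Spor.ruRj.congr_simp
theorem pre2_342 : type_of% @Cfsg.Spor.fourRu.eq_1 := @Cfsg.Spor.fourRu.eq_1
theorem pre2_343 : type_of% @Cfsg.Spor.fourRu.eq_def := @Cfsg.Spor.fourRu.eq_def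
theorem pre2_344 : type_of% @Cfsg.Spor.fourRu.congr_simp := @Cfsg.Spor.fourRu.congr_simp
theorem pre2_345 : type_of% @Cfsg.Spor.ruI.eq_1 := @Cfsg.Spor.ruI.eq_1
theorem pre2_346 : type_of% @Cfsg.Spor.ruI.eq_def := @Cfsg.Spor.ruI.eq_def
theorem pre2_347 : type_of% @Cfsg.Spor.ruI.congr_simp := @Cfsg.Spor.ruI.congr_simp
theorem pre2_348 : type_of% @Cfsg.Spor.ruShift.eq_1 := @Cfsg.Spor.ruShift.eq_1
theorem pre2_349 : type_of% @Cfsg.Spor.ruShift.eq_def := @Cfsg.Spor.ruShift.eq_def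
theorem pre2_350 : type_of% @Cfsg.Spor.ruShift.congr_simp := @Cfsg.Spor.ruShift.congr_simp
theorem pre2_351 : type_of% @Cfsg.Spor.ruClosed.eq_1 := @Cfsg.Spor.ruClosed.eq_1
theorem pre2_352 : type_of% @Cfsg.Spor.ruClosed.eq_def := @Cfsg.Spor.ruClosed.eq_def
theorem pre2_353 : type_of% @Cfsg.Spor.ruClosed.congr_simp := @Cfsg.Spor.ruClosed.congr_simp
theorem pre2_354 : type_of% @Cfsg.Spor.IsoRu.eq_1 := @Cfsg.Spor.IsoRu.eq_1
theorem pre2_355 : type_of% @Cfsg.Spor.IsoRu.eq_def := @Cfsg.Spor.IsoRu.eq_def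
theorem pre2_356 : type_of% @Cfsg.Spor.IsoRu.congr_simp := @Cfsg.Spor.IsoRu.congr_simp
theorem pre2_357 : type_of% @Cfsg.Spor.gI.eq_1 := @Cfsg.Spor.gI.eq_1
theorem pre2_358 : type_of% @Cfsg.Spor.gI.eq_def := @Cfsg.Spor.gI.eq_def
theorem pre2_359 : type_of% @Cfsg.Spor.gI.congr_simp := @Cfsg.Spor.gI.congr_simp
end CfOD
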