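import Mathlib
import Cfsg.Prelude.Def_Spor_Fi22
import Cfsg.Prelude.Def_Spor_Fi23
import Cfsg.Prelude.Def_Spor_Fi24
import Cfsg.Prelude.Def_Spor_ON
import Cfsg.Prelude.Def_Spor_B
import Cfsg.Prelude.Def_Spor_M
/-! Unique holder of the equation and congruence lemmas Lean writes on demand for these definition modules. -/
set_option linter.all false
namespace CfOD
theorem pre3_1 : type_of% @Cfsg.Spor.Fi22.e.eq_1 := @Cfsg.Spor.Fi22.e.eq_1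
theorem pre3_2 : type_of% @Cfsg.Spor.Fi22.e.eq_def := @Cfsg.Spor.Fi22.e.eq_def
theorem pre3_3 : type_of% @Cfsg.Spor.Fi22.e.congr_simp := @Cfsg.Spor.Fi22.e.congr_simp
theorem pre3_4 : type_of% @Cfsg.Spor.Fi22.Gen.noConfusionType.eq_1 := @Cfsg.Spor.Fi22.Gen.noConfusionType.eq_1
theorem pre3_5 : type_of% @Cfsg.Spor.Fi22.Gen.noConfusionType.eq_def := @Cfsg.Spor.Fi22.Gen.noConfusionType.eq_def
theorem pre3_6 : type_of% @Cfsg.Spor.Fi22.Gen.noConfusionType.congr_simp := @Cfsg.Spor.Fi22.Gen.noConfusionType.congr_simp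
theorem pre3_7 : type_of% @Cfsg.Spor.Fi22.g.eq_1 := @Cfsg.Spor.Fi22.g.eq_1
theorem pre3_8 : type_of% @Cfsg.Spor.Fi22.g.eq_def := @Cfsg.Spor.Fi22.g.eq_def
theorem pre3_9 : type_of% @Cfsg.Spor.Fi22.g.congr_simp := @Cfsg.Spor.Fi22.g.congr_simp
theorem pre3_10 : type_of% @Cfsg.Spor.Fi22.edges.eq_1 := @Cfsg.Spor.Fi22.edges.eq_1
theorem pre3_11 : type_of% @Cfsg.Spor.Fi22.edges.eq_def := @Cfsg.Spor.Fi22.edges.eq_def
theorem pre3_12 : type_of% @Cfsg.Spor.Fi22.edges.congr_simp := @Cfsg.Spor.Fi22.edges.congr_simp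
theorem pre3_13 : type_of% @Cfsg.Spor.Fi22.extra.eq_1 := @Cfsg.Spor.Fi22.extra.eq_1
theorem pre3_14 : type_of% @Cfsg.Spor.Fi22.extra.eq_def := @Cfsg.Spor.Fi22.extra.eq_def
theorem pre3_15 : type_of% @Cfsg.Spor.Fi22.extra.congr_simp := @Cfsg.Spor.Fi22.extra.congr_simp
theorem pre3_16 : type_of% @Cfsg.Spor.Fi22.eq_1 := @Cfsg.Spor.Fi22.eq_1
theorem pre3_17 : type_of% @Cfsg.Spor.Fi22.eq_def := @Cfsg.Spor.Fi22.eq_def
theorem pre3_18 : type_of% @Cfsg.Spor.Fi22.congr_simp := @Cfsg.Spor.Fi22.congr_simp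
theorem pre3_19 : type_of% @Cfsg.Spor.Fi22.d.eq_1 := @Cfsg.Spor.Fi22.d.eq_1
theorem pre3_20 : type_of% @Cfsg.Spor.Fi22.d.eq_def := @Cfsg.Spor.Fi22.d.eq_def
theorem pre3_21 : type_of% @Cfsg.Spor.Fi22.d.congr_simp := @Cfsg.Spor.Fi22.d.congr_simp
theorem pre3_22 : type_of% @Cfsg.Spor.Fi22.h.eq_1 := @Cfsg.Spor.Fi22.h.eq_1
theorem pre3_23 : type_of% @Cfsg.Spor.Fi22.h.eq_def := @Cfsg.Spor.Fi22.h.eq_def
theorem pre3_24 : type_of% @Cfsg.Spor.Fi22.h.congr_simp := @Cfsg.Spor.Fi22.h.congr_simp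
theorem pre3_25 : type_of% @Cfsg.Spor.IsoFi22.eq_1 := @Cfsg.Spor.IsoFi22.eq_1
theorem pre3_26 : type_of% @Cfsg.Spor.IsoFi22.eq_def := @Cfsg.Spor.IsoFi22.eq_def
theorem pre3_27 : type_of% @Cfsg.Spor.IsoFi22.congr_simp := @Cfsg.Spor.IsoFi22.congr_simp
theorem pre3_28 : type_of% @Cfsg.Spor.Fi22.c.eq_1 := @Cfsg.Spor.Fi22.c.eq_1
theorem pre3_29 : type_of% @Cfsg.Spor.Fi22.c.eq_def := @Cfsg.Spor.Fi22.c.eq_def
theorem pre3_30 : type_of% @Cfsg.Spor.Fi22.c.congr_simp := @Cfsg.Spor.Fi22.c.congr_simp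
theorem pre3_31 : type_of% @Cfsg.Spor.Fi22.Gen.ctorElimType.eq_1 := @Cfsg.Spor.Fi22.Gen.ctorElimType.eq_1
theorem pre3_32 : type_of% @Cfsg.Spor.Fi22.Gen.ctorElimType.eq_def := @Cfsg.Spor.Fi22.Gen.ctorElimType.eq_def
theorem pre3_33 : type_of% @Cfsg.Spor.Fi22.Gen.ctorElimType.congr_simp := @Cfsg.Spor.Fi22.Gen.ctorElimType.congr_simp
theorem pre3_34 : type_of% @Cfsg.Spor.Fi22.i.eq_1 := @Cfsg.Spor.Fi22.i.eq_1
theorem pre3_35 : type_of% @Cfsg.Spor.Fi22.i.eq_def := @Cfsg.Spor.Fi22.i.eq_def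
theorem pre3_36 : type_of% @Cfsg.Spor.Fi22.i.congr_simp := @Cfsg.Spor.Fi22.i.congr_simp
theorem pre3_37 : type_of% @Cfsg.Spor.Fi22.b.eq_1 := @Cfsg.Spor.Fi22.b.eq_1
theorem pre3_38 : type_of% @Cfsg.Spor.Fi22.b.eq_def := @Cfsg.Spor.Fi22.b.eq_def
theorem pre3_39 : type_of% @Cfsg.Spor.Fi22.b.congr_simp := @Cfsg.Spor.Fi22.b.congr_simp
theorem pre3_40 : type_of% @Cfsg.Spor.Fi22.instDecidableEqGen.eq_1 := @Cfsg.Spor.Fi22.instDecidableEqGen.eq_1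
theorem pre3_41 : type_of% @Cfsg.Spor.Fi22.instDecidableEqGen.eq_def := @Cfsg.Spor.Fi22.instDecidableEqGen.eq_def
theorem pre3_42 : type_of% @Cfsg.Spor.Fi22.instDecidableEqGen.congr_simp := @Cfsg.Spor.Fi22.instDecidableEqGen.congr_simp
theorem pre3_43 : type_of% @Cfsg.Spor.Fi22.f.eq_1 := @Cfsg.Spor.Fi22.f.eq_1
theorem pre3_44 : type_of% @Cfsg.Spor.Fi22.f.eq_def := @Cfsg.Spor.Fi22.f.eq_def
theorem pre3_45 : type_of% @Cfsg.Spor.Fi22.f.congr_simp := @Cfsg.Spor.Fi22.f.congr_simp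
theorem pre3_46 : type_of% @Cfsg.Spor.Fi22.Gen.ctorIdx.eq_1 := @Cfsg.Spor.Fi22.Gen.ctorIdx.eq_1
theorem pre3_47 : type_of% @Cfsg.Spor.Fi22.Gen.ctorIdx.eq_def := @Cfsg.Spor.Fi22.Gen.ctorIdx.eq_def
theorem pre3_48 : type_of% @Cfsg.Spor.Fi22.Gen.ctorIdx.congr_simp := @Cfsg.Spor.Fi22.Gen.ctorIdx.congr_simp
theorem pre3_49 : type_of% @Cfsg.Spor.Fi22.Gen.ofNat.eq_1 := @Cfsg.Spor.Fi22.Gen.ofNat.eq_1
theorem pre3_50 : type_of% @Cfsg.Spor.Fi22.Gen.ofNat.eq_def := @Cfsg.Spor.Fi22.Gen.ofNat.eq_def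
theorem pre3_51 : type_of% @Cfsg.Spor.Fi22.Gen.ofNat.congr_simp := @Cfsg.Spor.Fi22.Gen.ofNat.congr_simp
theorem pre3_52 : type_of% @Cfsg.Spor.Fi22.Gen.toCtorIdx.eq_1 := @Cfsg.Spor.Fi22.Gen.toCtorIdx.eq_1
theorem pre3_53 : type_of% @Cfsg.Spor.Fi22.Gen.toCtorIdx.eq_def := @Cfsg.Spor.Fi22.Gen.toCtorIdx.eq_def
theorem pre3_54 : type_of% @Cfsg.Spor.Fi22.Gen.toCtorIdx.congr_simp := @Cfsg.Spor.Fi22.Gen.toCtorIdx.congr_simp
theorem pre3_55 : type_of% @Cfsg.Spor.Fi22.a.eq_1 := @Cfsg.Spor.Fi22.a.eq_1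
theorem pre3_56 : type_of% @Cfsg.Spor.Fi22.a.eq_def := @Cfsg.Spor.Fi22.a.eq_def
theorem pre3_57 : type_of% @Cfsg.Spor.Fi22.a.congr_simp := @Cfsg.Spor.Fi22.a.congr_simp
theorem pre3_58 : type_of% @Cfsg.Spor.Fi23.Gen.noConfusionType.eq_1 := @Cfsg.Spor.Fi23.Gen.noConfusionType.eq_1
theorem pre3_59 : type_of% @Cfsg.Spor.Fi23.Gen.noConfusionType.eq_def := @Cfsg.Spor.Fi23.Gen.noConfusionType.eq_def
theorem pre3_60 : type_of% @Cfsg.Spor.Fi23.Gen.noConfusionType.congr_simp := @Cfsg.Spor.Fi23.Gen.noConfusionType.congr_simp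
theorem pre3_61 : type_of% @Cfsg.Spor.Fi23.Gen.ctorElimType.eq_1 := @Cfsg.Spor.Fi23.Gen.ctorElimType.eq_1
theorem pre3_62 : type_of% @Cfsg.Spor.Fi23.Gen.ctorElimType.eq_def := @Cfsg.Spor.Fi23.Gen.ctorElimType.eq_def
theorem pre3_63 : type_of% @Cfsg.Spor.Fi23.Gen.ctorElimType.congr_simp := @Cfsg.Spor.Fi23.Gen.ctorElimType.congr_simp
theorem pre3_64 : type_of% @Cfsg.Spor.Fi23.Gen.toCtorIdx.eq_1 := @Cfsg.Spor.Fi23.Gen.toCtorIdx.eq_1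
theorem pre3_65 : type_of% @Cfsg.Spor.Fi23.Gen.toCtorIdx.eq_def := @Cfsg.Spor.Fi23.Gen.toCtorIdx.eq_def
theorem pre3_66 : type_of% @Cfsg.Spor.Fi23.Gen.toCtorIdx.congr_simp := @Cfsg.Spor.Fi23.Gen.toCtorIdx.congr_simp
theorem pre3_67 : type_of% @Cfsg.Spor.Fi23.Gen.ofNat.eq_1 := @Cfsg.Spor.Fi23.Gen.ofNat.eq_1
theorem pre3_68 : type_of% @Cfsg.Spor.Fi23.Gen.ofNat.eq_def := @Cfsg.Spor.Fi23.Gen.ofNat.eq_def
theorem pre3_69 : type_of% @Cfsg.Spor.Fi23.Gen.ofNat.congr_simp := @Cfsg.Spor.Fi23.Gen.ofNat.congr_simp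
theorem pre3_70 : type_of% @Cfsg.Spor.Fi23.e.eq_1 := @Cfsg.Spor.Fi23.e.eq_1
theorem pre3_71 : type_of% @Cfsg.Spor.Fi23.e.eq_def := @Cfsg.Spor.Fi23.e.eq_def
theorem pre3_72 : type_of% @Cfsg.Spor.Fi23.e.congr_simp := @Cfsg.Spor.Fi23.e.congr_simp
theorem pre3_73 : type_of% @Cfsg.Spor.Fi23.j.eq_1 := @Cfsg.Spor.Fi23.j.eq_1
theorem pre3_74 : type_of% @Cfsg.Spor.Fi23.j.eq_def := @Cfsg.Spor.Fi23.j.eq_def
theorem pre3_75 : type_of% @Cfsg.Spor.Fi23.j.congr_simp := @Cfsg.Spor.Fi23.j.congr_simp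
theorem pre3_76 : type_of% @Cfsg.Spor.Fi23.Gen.ctorIdx.eq_1 := @Cfsg.Spor.Fi23.Gen.ctorIdx.eq_1
theorem pre3_77 : type_of% @Cfsg.Spor.Fi23.Gen.ctorIdx.eq_def := @Cfsg.Spor.Fi23.Gen.ctorIdx.eq_def
theorem pre3_78 : type_of% @Cfsg.Spor.Fi23.Gen.ctorIdx.congr_simp := @Cfsg.Spor.Fi23.Gen.ctorIdx.congr_simp
theorem pre3_79 : type_of% @Cfsg.Spor.Fi23.g.eq_1 := @Cfsg.Spor.Fi23.g.eq_1
theorem pre3_80 : type_of% @Cfsg.Spor.Fi23.g.eq_def := @Cfsg.Spor.Fi23.g.eq_def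
theorem pre3_81 : type_of% @Cfsg.Spor.Fi23.g.congr_simp := @Cfsg.Spor.Fi23.g.congr_simp
theorem pre3_82 : type_of% @Cfsg.Spor.IsoFi23.eq_1 := @Cfsg.Spor.IsoFi23.eq_1
theorem pre3_83 : type_of% @Cfsg.Spor.IsoFi23.eq_def := @Cfsg.Spor.IsoFi23.eq_def
theorem pre3_84 : type_of% @Cfsg.Spor.IsoFi23.congr_simp := @Cfsg.Spor.IsoFi23.congr_simp
theorem pre3_85 : type_of% @Cfsg.Spor.Fi23.edges.eq_1 := @Cfsg.Spor.Fi23.edges.eq_1
theorem pre3_86 : type_of% @Cfsg.Spor.Fi23.edges.eq_def := @Cfsg.Spor.Fi23.edges.eq_def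
theorem pre3_87 : type_of% @Cfsg.Spor.Fi23.edges.congr_simp := @Cfsg.Spor.Fi23.edges.congr_simp
theorem pre3_88 : type_of% @Cfsg.Spor.Fi23.extra.eq_1 := @Cfsg.Spor.Fi23.extra.eq_1
theorem pre3_89 : type_of% @Cfsg.Spor.Fi23.extra.eq_def := @Cfsg.Spor.Fi23.extra.eq_def
theorem pre3_90 : type_of% @Cfsg.Spor.Fi23.extra.congr_simp := @Cfsg.Spor.Fi23.extra.congr_simp
theorem pre3_91 : type_of% @Cfsg.Spor.Fi23.d.eq_1 := @Cfsg.Spor.Fi23.d.eq_1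
theorem pre3_92 : type_of% @Cfsg.Spor.Fi23.d.eq_def := @Cfsg.Spor.Fi23.d.eq_def
theorem pre3_93 : type_of% @Cfsg.Spor.Fi23.d.congr_simp := @Cfsg.Spor.Fi23.d.congr_simp
theorem pre3_94 : type_of% @Cfsg.Spor.Fi23.h.eq_1 := @Cfsg.Spor.Fi23.h.eq_1
theorem pre3_95 : type_of% @Cfsg.Spor.Fi23.h.eq_def := @Cfsg.Spor.Fi23.h.eq_def
theorem pre3_96 : type_of% @Cfsg.Spor.Fi23.h.congr_simp := @Cfsg.Spor.Fi23.h.congr_simp
theorem pre3_97 : type_of% @Cfsg.Spor.Fi23.b.eq_1 := @Cfsg.Spor.Fi23.b.eq_1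
theorem pre3_98 : type_of% @Cfsg.Spor.Fi23.b.eq_def := @Cfsg.Spor.Fi23.b.eq_def
theorem pre3_99 : type_of% @Cfsg.Spor.Fi23.b.congr_simp := @Cfsg.Spor.Fi23.b.congr_simp
theorem pre3_100 : type_of% @Cfsg.Spor.Fi23.c.eq_1 := @Cfsg.Spor.Fi23.c.eq_1
theorem pre3_101 : type_of% @Cfsg.Spor.Fi23.c.eq_def := @Cfsg.Spor.Fi23.c.eq_def
theorem pre3_102 : type_of% @Cfsg.Spor.Fi23.c.congr_simp := @Cfsg.Spor.Fi23.c.congr_simp
theorem pre3_103 : type_of% @Cfsg.Spor.Fi23.f.eq_1 := @Cfsg.Spor.Fi23.f.eq_1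
theorem pre3_104 : type_of% @Cfsg.Spor.Fi23.f.eq_def := @Cfsg.Spor.Fi23.f.eq_def
theorem pre3_105 : type_of% @Cfsg.Spor.Fi23.f.congr_simp := @Cfsg.Spor.Fi23.f.congr_simp
theorem pre3_106 : type_of% @Cfsg.Spor.Fi23.a.eq_1 := @Cfsg.Spor.Fi23.a.eq_1
theorem pre3_107 : type_of% @Cfsg.Spor.Fi23.a.eq_def := @Cfsg.Spor.Fi23.a.eq_def
theorem pre3_108 : type_of% @Cfsg.Spor.Fi23.a.congr_simp := @Cfsg.Spor.Fi23.a.congr_simp
theorem pre3_109 : type_of% @Cfsg.Spor.Fi23.eq_1 := @Cfsg.Spor.Fi23.eq_1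
theorem pre3_110 : type_of% @Cfsg.Spor.Fi23.eq_def := @Cfsg.Spor.Fi23.eq_def
theorem pre3_111 : type_of% @Cfsg.Spor.Fi23.congr_simp := @Cfsg.Spor.Fi23.congr_simp
theorem pre3_112 : type_of% @Cfsg.Spor.Fi23.i.eq_1 := @Cfsg.Spor.Fi23.i.eq_1
theorem pre3_113 : type_of% @Cfsg.Spor.Fi23.i.eq_def := @Cfsg.Spor.Fi23.i.eq_def
theorem pre3_114 : type_of% @Cfsg.Spor.Fi23.i.congr_simp := @Cfsg.Spor.Fi23.i.congr_simp
theorem pre3_115 : type_of% @Cfsg.Spor.Fi23.instDecidableEqGen.eq_1 := @Cfsg.Spor.Fi23.instDecidableEqGen.eq_1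
theorem pre3_116 : type_of% @Cfsg.Spor.Fi23.instDecidableEqGen.eq_def := @Cfsg.Spor.Fi23.instDecidableEqGen.eq_def
theorem pre3_117 : type_of% @Cfsg.Spor.Fi23.instDecidableEqGen.congr_simp := @Cfsg.Spor.Fi23.instDecidableEqGen.congr_simp
theorem pre3_118 : type_of% @Cfsg.Spor.Fi24.extra.eq_1 := @Cfsg.Spor.Fi24.extra.eq_1
theorem pre3_119 : type_of% @Cfsg.Spor.Fi24.extra.eq_def := @Cfsg.Spor.Fi24.extra.eq_def
theorem pre3_120 : type_of% @Cfsg.Spor.Fi24.extra.congr_simp := @Cfsg.Spor.Fi24.extra.congr_simp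
theorem pre3_121 : type_of% @Cfsg.Spor.Fi24.l.eq_1 := @Cfsg.Spor.Fi24.l.eq_1
theorem pre3_122 : type_of% @Cfsg.Spor.Fi24.l.eq_def := @Cfsg.Spor.Fi24.l.eq_def
theorem pre3_123 : type_of% @Cfsg.Spor.Fi24.l.congr_simp := @Cfsg.Spor.Fi24.l.congr_simp
theorem pre3_124 : type_of% @Cfsg.Spor.Fi24.edges.eq_1 := @Cfsg.Spor.Fi24.edges.eq_1
theorem pre3_125 : type_of% @Cfsg.Spor.Fi24.edges.eq_def := @Cfsg.Spor.Fi24.edges.eq_def
theorem pre3_126 : type_of% @Cfsg.Spor.Fi24.edges.congr_simp := @Cfsg.Spor.Fi24.edges.congr_simp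
theorem pre3_127 : type_of% @Cfsg.Spor.Fi24.g.eq_1 := @Cfsg.Spor.Fi24.g.eq_1
theorem pre3_128 : type_of% @Cfsg.Spor.Fi24.g.eq_def := @Cfsg.Spor.Fi24.g.eq_def
theorem pre3_129 : type_of% @Cfsg.Spor.Fi24.g.congr_simp := @Cfsg.Spor.Fi24.g.congr_simp
theorem pre3_130 : type_of% @Cfsg.Spor.Fi24.j.eq_1 := @Cfsg.Spor.Fi24.j.eq_1
theorem pre3_131 : type_of% @Cfsg.Spor.Fi24.j.eq_def := @Cfsg.Spor.Fi24.j.eq_def
theorem pre3_132 : type_of% @Cfsg.Spor.Fi24.j.congr_simp := @Cfsg.Spor.Fi24.j.congr_simp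
theorem pre3_133 : type_of% @Cfsg.Spor.Fi24.e.eq_1 := @Cfsg.Spor.Fi24.e.eq_1
theorem pre3_134 : type_of% @Cfsg.Spor.Fi24.e.eq_def := @Cfsg.Spor.Fi24.e.eq_def
theorem pre3_135 : type_of% @Cfsg.Spor.Fi24.e.congr_simp := @Cfsg.Spor.Fi24.e.congr_simp
theorem pre3_136 : type_of% @Cfsg.Spor.Fi24.eq_1 := @Cfsg.Spor.Fi24.eq_1
theorem pre3_137 : type_of% @Cfsg.Spor.Fi24.eq_def := @Cfsg.Spor.Fi24.eq_def
theorem pre3_138 : type_of% @Cfsg.Spor.Fi24.congr_simp := @Cfsg.Spor.Fi24.congr_simp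
theorem pre3_139 : type_of% @Cfsg.Spor.Fi24.Gen.ofNat.eq_1 := @Cfsg.Spor.Fi24.Gen.ofNat.eq_1
theorem pre3_140 : type_of% @Cfsg.Spor.Fi24.Gen.ofNat.eq_def := @Cfsg.Spor.Fi24.Gen.ofNat.eq_def
theorem pre3_141 : type_of% @Cfsg.Spor.Fi24.Gen.ofNat.congr_simp := @Cfsg.Spor.Fi24.Gen.ofNat.congr_simp
theorem pre3_142 : type_of% @Cfsg.Spor.Fi24.Gen.toCtorIdx.eq_1 := @Cfsg.Spor.Fi24.Gen.toCtorIdx.eq_1
theorem pre3_143 : type_of% @Cfsg.Spor.Fi24.Gen.toCtorIdx.eq_def := @Cfsg.Spor.Fi24.Gen.toCtorIdx.eq_def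
theorem pre3_144 : type_of% @Cfsg.Spor.Fi24.Gen.toCtorIdx.congr_simp := @Cfsg.Spor.Fi24.Gen.toCtorIdx.congr_simp
theorem pre3_145 : type_of% @Cfsg.Spor.IsoFi24'.eq_1 := @Cfsg.Spor.IsoFi24'.eq_1
theorem pre3_146 : type_of% @Cfsg.Spor.IsoFi24'.eq_def := @Cfsg.Spor.IsoFi24'.eq_def
theorem pre3_147 : type_of% @Cfsg.Spor.IsoFi24'.congr_simp := @Cfsg.Spor.IsoFi24'.congr_simp
theorem pre3_148 : type_of% @Cfsg.Spor.Fi24.Gen.ctorIdx.eq_1 := @Cfsg.Spor.Fi24.Gen.ctorIdx.eq_1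
theorem pre3_149 : type_of% @Cfsg.Spor.Fi24.Gen.ctorIdx.eq_def := @Cfsg.Spor.Fi24.Gen.ctorIdx.eq_def
theorem pre3_150 : type_of% @Cfsg.Spor.Fi24.Gen.ctorIdx.congr_simp := @Cfsg.Spor.Fi24.Gen.ctorIdx.congr_simp
theorem pre3_151 : type_of% @Cfsg.Spor.Fi24.Gen.noConfusionType.eq_1 := @Cfsg.Spor.Fi24.Gen.noConfusionType.eq_1
theorem pre3_152 : type_of% @Cfsg.Spor.Fi24.Gen.noConfusionType.eq_def := @Cfsg.Spor.Fi24.Gen.noConfusionType.eq_def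
theorem pre3_153 : type_of% @Cfsg.Spor.Fi24.Gen.noConfusionType.congr_simp := @Cfsg.Spor.Fi24.Gen.noConfusionType.congr_simp
theorem pre3_154 : type_of% @Cfsg.Spor.Fi24.instDecidableEqGen.eq_1 := @Cfsg.Spor.Fi24.instDecidableEqGen.eq_1
theorem pre3_155 : type_of% @Cfsg.Spor.Fi24.instDecidableEqGen.eq_def := @Cfsg.Spor.Fi24.instDecidableEqGen.eq_def
theorem pre3_156 : type_of% @Cfsg.Spor.Fi24.instDecidableEqGen.congr_simp := @Cfsg.Spor.Fi24.instDecidableEqGen.congr_simp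
theorem pre3_157 : type_of% @Cfsg.Spor.Fi24.i.eq_1 := @Cfsg.Spor.Fi24.i.eq_1
theorem pre3_158 : type_of% @Cfsg.Spor.Fi24.i.eq_def := @Cfsg.Spor.Fi24.i.eq_def
theorem pre3_159 : type_of% @Cfsg.Spor.Fi24.i.congr_simp := @Cfsg.Spor.Fi24.i.congr_simp
theorem pre3_160 : type_of% @Cfsg.Spor.Fi24.a.eq_1 := @Cfsg.Spor.Fi24.a.eq_1
theorem pre3_161 : type_of% @Cfsg.Spor.Fi24.a.eq_def := @Cfsg.Spor.Fi24.a.eq_def
theorem pre3_162 : type_of% @Cfsg.Spor.Fi24.a.congr_simp := @Cfsg.Spor.Fi24.a.congr_simp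
theorem pre3_163 : type_of% @Cfsg.Spor.Fi24.Gen.ctorElimType.eq_1 := @Cfsg.Spor.Fi24.Gen.ctorElimType.eq_1
theorem pre3_164 : type_of% @Cfsg.Spor.Fi24.Gen.ctorElimType.eq_def := @Cfsg.Spor.Fi24.Gen.ctorElimType.eq_def
theorem pre3_165 : type_of% @Cfsg.Spor.Fi24.Gen.ctorElimType.congr_simp := @Cfsg.Spor.Fi24.Gen.ctorElimType.congr_simp
theorem pre3_166 : type_of% @Cfsg.Spor.Fi24.k.eq_1 := @Cfsg.Spor.Fi24.k.eq_1
theorem pre3_167 : type_of% @Cfsg.Spor.Fi24.k.eq_def := @Cfsg.Spor.Fi24.k.eq_def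
theorem pre3_168 : type_of% @Cfsg.Spor.Fi24.k.congr_simp := @Cfsg.Spor.Fi24.k.congr_simp
theorem pre3_169 : type_of% @Cfsg.Spor.Fi24'.eq_1 := @Cfsg.Spor.Fi24'.eq_1
theorem pre3_170 : type_of% @Cfsg.Spor.Fi24'.eq_def := @Cfsg.Spor.Fi24'.eq_def
theorem pre3_171 : type_of% @Cfsg.Spor.Fi24'.congr_simp := @Cfsg.Spor.Fi24'.congr_simp
theorem pre3_172 : type_of% @Cfsg.Spor.Fi24.f.eq_1 := @Cfsg.Spor.Fi24.f.eq_1
theorem pre3_173 : type_of% @Cfsg.Spor.Fi24.f.eq_def := @Cfsg.Spor.Fi24.f.eq_def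
theorem pre3_174 : type_of% @Cfsg.Spor.Fi24.f.congr_simp := @Cfsg.Spor.Fi24.f.congr_simp
theorem pre3_175 : type_of% @Cfsg.Spor.Fi24.c.eq_1 := @Cfsg.Spor.Fi24.c.eq_1
theorem pre3_176 : type_of% @Cfsg.Spor.Fi24.c.eq_def := @Cfsg.Spor.Fi24.c.eq_def
theorem pre3_177 : type_of% @Cfsg.Spor.Fi24.c.congr_simp := @Cfsg.Spor.Fi24.c.congr_simp
theorem pre3_178 : type_of% @Cfsg.Spor.Fi24.b.eq_1 := @Cfsg.Spor.Fi24.b.eq_1
theorem pre3_179 : type_of% @Cfsg.Spor.Fi24.b.eq_def := @Cfsg.Spor.Fi24.b.eq_def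
theorem pre3_180 : type_of% @Cfsg.Spor.Fi24.b.congr_simp := @Cfsg.Spor.Fi24.b.congr_simp
theorem pre3_181 : type_of% @Cfsg.Spor.Fi24.d.eq_1 := @Cfsg.Spor.Fi24.d.eq_1
theorem pre3_182 : type_of% @Cfsg.Spor.Fi24.d.eq_def := @Cfsg.Spor.Fi24.d.eq_def
theorem pre3_183 : type_of% @Cfsg.Spor.Fi24.d.congr_simp := @Cfsg.Spor.Fi24.d.congr_simp
theorem pre3_184 : type_of% @Cfsg.Spor.Fi24.h.eq_1 := @Cfsg.Spor.Fi24.h.eq_1
theorem pre3_185 : type_of% @Cfsg.Spor.Fi24.h.eq_def := @Cfsg.Spor.Fi24.h.eq_def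
theorem pre3_186 : type_of% @Cfsg.Spor.Fi24.h.congr_simp := @Cfsg.Spor.Fi24.h.congr_simp
theorem pre3_187 : type_of% @Cfsg.Spor.ON.Gen.noConfusionType.eq_1 := @Cfsg.Spor.ON.Gen.noConfusionType.eq_1
theorem pre3_188 : type_of% @Cfsg.Spor.ON.Gen.noConfusionType.eq_def := @Cfsg.Spor.ON.Gen.noConfusionType.eq_def
theorem pre3_189 : type_of% @Cfsg.Spor.ON.Gen.noConfusionType.congr_simp := @Cfsg.Spor.ON.Gen.noConfusionType.congr_simp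
theorem pre3_190 : type_of% @Cfsg.Spor.ON.Gen.ctorElimType.eq_1 := @Cfsg.Spor.ON.Gen.ctorElimType.eq_1
theorem pre3_191 : type_of% @Cfsg.Spor.ON.Gen.ctorElimType.eq_def := @Cfsg.Spor.ON.Gen.ctorElimType.eq_def
theorem pre3_192 : type_of% @Cfsg.Spor.ON.Gen.ctorElimType.congr_simp := @Cfsg.Spor.ON.Gen.ctorElimType.congr_simp
theorem pre3_193 : type_of% @Cfsg.Spor.ON.Gen.ofNat.eq_1 := @Cfsg.Spor.ON.Gen.ofNat.eq_1
theorem pre3_194 : type_of% @Cfsg.Spor.ON.Gen.ofNat.eq_def := @Cfsg.Spor.ON.Gen.ofNat.eq_def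
theorem pre3_195 : type_of% @Cfsg.Spor.ON.Gen.ofNat.congr_simp := @Cfsg.Spor.ON.Gen.ofNat.congr_simp
theorem pre3_196 : type_of% @Cfsg.Spor.ON.Gen.toCtorIdx.eq_1 := @Cfsg.Spor.ON.Gen.toCtorIdx.eq_1
theorem pre3_197 : type_of% @Cfsg.Spor.ON.Gen.toCtorIdx.eq_def := @Cfsg.Spor.ON.Gen.toCtorIdx.eq_def
theorem pre3_198 : type_of% @Cfsg.Spor.ON.Gen.toCtorIdx.congr_simp := @Cfsg.Spor.ON.Gen.toCtorIdx.congr_simp
theorem pre3_199 : type_of% @Cfsg.Spor.ON.e.eq_1 := @Cfsg.Spor.ON.e.eq_1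
theorem pre3_200 : type_of% @Cfsg.Spor.ON.e.eq_def := @Cfsg.Spor.ON.e.eq_def
theorem pre3_201 : type_of% @Cfsg.Spor.ON.e.congr_simp := @Cfsg.Spor.ON.e.congr_simp
theorem pre3_202 : type_of% @Cfsg.Spor.ON.g.eq_1 := @Cfsg.Spor.ON.g.eq_1
theorem pre3_203 : type_of% @Cfsg.Spor.ON.g.eq_def := @Cfsg.Spor.ON.g.eq_def
theorem pre3_204 : type_of% @Cfsg.Spor.ON.g.congr_simp := @Cfsg.Spor.ON.g.congr_simp
theorem pre3_205 : type_of% @Cfsg.Spor.ON.Gen.ctorIdx.eq_1 := @Cfsg.Spor.ON.Gen.ctorIdx.eq_1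
theorem pre3_206 : type_of% @Cfsg.Spor.ON.Gen.ctorIdx.eq_def := @Cfsg.Spor.ON.Gen.ctorIdx.eq_def
theorem pre3_207 : type_of% @Cfsg.Spor.ON.Gen.ctorIdx.congr_simp := @Cfsg.Spor.ON.Gen.ctorIdx.congr_simp
theorem pre3_208 : type_of% @Cfsg.Spor.ON.edges.eq_1 := @Cfsg.Spor.ON.edges.eq_1
theorem pre3_209 : type_of% @Cfsg.Spor.ON.edges.eq_def := @Cfsg.Spor.ON.edges.eq_def
theorem pre3_210 : type_of% @Cfsg.Spor.ON.edges.congr_simp := @Cfsg.Spor.ON.edges.congr_simp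
theorem pre3_211 : type_of% @Cfsg.Spor.ON.extra.eq_1 := @Cfsg.Spor.ON.extra.eq_1
theorem pre3_212 : type_of% @Cfsg.Spor.ON.extra.eq_def := @Cfsg.Spor.ON.extra.eq_def
theorem pre3_213 : type_of% @Cfsg.Spor.ON.extra.congr_simp := @Cfsg.Spor.ON.extra.congr_simp
theorem pre3_214 : type_of% @Cfsg.Spor.IsoON.eq_1 := @Cfsg.Spor.IsoON.eq_1
theorem pre3_215 : type_of% @Cfsg.Spor.IsoON.eq_def := @Cfsg.Spor.IsoON.eq_def
theorem pre3_216 : type_of% @Cfsg.Spor.IsoON.congr_simp := @Cfsg.Spor.IsoON.congr_simp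
theorem pre3_217 : type_of% @Cfsg.Spor.ON.d.eq_1 := @Cfsg.Spor.ON.d.eq_1
theorem pre3_218 : type_of% @Cfsg.Spor.ON.d.eq_def := @Cfsg.Spor.ON.d.eq_def
theorem pre3_219 : type_of% @Cfsg.Spor.ON.d.congr_simp := @Cfsg.Spor.ON.d.congr_simp
theorem pre3_220 : type_of% @Cfsg.Spor.ON.b.eq_1 := @Cfsg.Spor.ON.b.eq_1
theorem pre3_221 : type_of% @Cfsg.Spor.ON.b.eq_def := @Cfsg.Spor.ON.b.eq_def
theorem pre3_222 : type_of% @Cfsg.Spor.ON.b.congr_simp := @Cfsg.Spor.ON.b.congr_simp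
theorem pre3_223 : type_of% @Cfsg.Spor.ON.c.eq_1 := @Cfsg.Spor.ON.c.eq_1
theorem pre3_224 : type_of% @Cfsg.Spor.ON.c.eq_def := @Cfsg.Spor.ON.c.eq_def
theorem pre3_225 : type_of% @Cfsg.Spor.ON.c.congr_simp := @Cfsg.Spor.ON.c.congr_simp
theorem pre3_226 : type_of% @Cfsg.Spor.ON.f.eq_1 := @Cfsg.Spor.ON.f.eq_1
theorem pre3_227 : type_of% @Cfsg.Spor.ON.f.eq_def := @Cfsg.Spor.ON.f.eq_def
theorem pre3_228 : type_of% @Cfsg.Spor.ON.f.congr_simp := @Cfsg.Spor.ON.f.congr_simp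
theorem pre3_229 : type_of% @Cfsg.Spor.ON.a.eq_1 := @Cfsg.Spor.ON.a.eq_1
theorem pre3_230 : type_of% @Cfsg.Spor.ON.a.eq_def := @Cfsg.Spor.ON.a.eq_def
theorem pre3_231 : type_of% @Cfsg.Spor.ON.a.congr_simp := @Cfsg.Spor.ON.a.congr_simp
theorem pre3_232 : type_of% @Cfsg.Spor.ON.eq_1 := @Cfsg.Spor.ON.eq_1
theorem pre3_233 : type_of% @Cfsg.Spor.ON.eq_def := @Cfsg.Spor.ON.eq_def
theorem pre3_234 : type_of% @Cfsg.Spor.ON.congr_simp := @Cfsg.Spor.ON.congr_simp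
theorem pre3_235 : type_of% @Cfsg.Spor.ON.instDecidableEqGen.eq_1 := @Cfsg.Spor.ON.instDecidableEqGen.eq_1
theorem pre3_236 : type_of% @Cfsg.Spor.ON.instDecidableEqGen.eq_def := @Cfsg.Spor.ON.instDecidableEqGen.eq_def
theorem pre3_237 : type_of% @Cfsg.Spor.ON.instDecidableEqGen.congr_simp := @Cfsg.Spor.ON.instDecidableEqGen.congr_simp
theorem pre3_238 : type_of% @Cfsg.Spor.IsoB.eq_1 := @Cfsg.Spor.IsoB.eq_1
theorem pre3_239 : type_of% @Cfsg.Spor.IsoB.eq_def := @Cfsg.Spor.IsoB.eq_def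
theorem pre3_240 : type_of% @Cfsg.Spor.IsoB.congr_simp := @Cfsg.Spor.IsoB.congr_simp
theorem pre3_241 : type_of% @Cfsg.Spor.BabyMonster.edges.eq_1 := @Cfsg.Spor.BabyMonster.edges.eq_1
theorem pre3_242 : type_of% @Cfsg.Spor.BabyMonster.edges.eq_def := @Cfsg.Spor.BabyMonster.edges.eq_def
theorem pre3_243 : type_of% @Cfsg.Spor.BabyMonster.edges.congr_simp := @Cfsg.Spor.BabyMonster.edges.congr_simp
theorem pre3_244 : type_of% @Cfsg.Spor.BabyMonster.extra.eq_1 := @Cfsg.Spor.BabyMonster.extra.eq_1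
theorem pre3_245 : type_of% @Cfsg.Spor.BabyMonster.extra.eq_def := @Cfsg.Spor.BabyMonster.extra.eq_def
theorem pre3_246 : type_of% @Cfsg.Spor.BabyMonster.extra.congr_simp := @Cfsg.Spor.BabyMonster.extra.congr_simp
theorem pre3_247 : type_of% @Cfsg.Spor.BabyMonster.t11.eq_1 := @Cfsg.Spor.BabyMonster.t11.eq_1
theorem pre3_248 : type_of% @Cfsg.Spor.BabyMonster.t11.eq_def := @Cfsg.Spor.BabyMonster.t11.eq_def
theorem pre3_249 : type_of% @Cfsg.Spor.BabyMonster.t11.congr_simp := @Cfsg.Spor.BabyMonster.t11.congr_simp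
theorem pre3_250 : type_of% @Cfsg.Spor.BabyMonster.t3.eq_1 := @Cfsg.Spor.BabyMonster.t3.eq_1
theorem pre3_251 : type_of% @Cfsg.Spor.BabyMonster.t3.eq_def := @Cfsg.Spor.BabyMonster.t3.eq_def
theorem pre3_252 : type_of% @Cfsg.Spor.BabyMonster.t3.congr_simp := @Cfsg.Spor.BabyMonster.t3.congr_simp
theorem pre3_253 : type_of% @Cfsg.Spor.BabyMonster.t2.eq_1 := @Cfsg.Spor.BabyMonster.t2.eq_1
theorem pre3_254 : type_of% @Cfsg.Spor.BabyMonster.t2.eq_def := @Cfsg.Spor.BabyMonster.t2.eq_def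
theorem pre3_255 : type_of% @Cfsg.Spor.BabyMonster.t2.congr_simp := @Cfsg.Spor.BabyMonster.t2.congr_simp
theorem pre3_256 : type_of% @Cfsg.Spor.BabyMonster.t6.eq_1 := @Cfsg.Spor.BabyMonster.t6.eq_1
theorem pre3_257 : type_of% @Cfsg.Spor.BabyMonster.t6.eq_def := @Cfsg.Spor.BabyMonster.t6.eq_def
theorem pre3_258 : type_of% @Cfsg.Spor.BabyMonster.t6.congr_simp := @Cfsg.Spor.BabyMonster.t6.congr_simp
theorem pre3_259 : type_of% @Cfsg.Spor.BabyMonster.t10.eq_1 := @Cfsg.Spor.BabyMonster.t10.eq_1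
theorem pre3_260 : type_of% @Cfsg.Spor.BabyMonster.t10.eq_def := @Cfsg.Spor.BabyMonster.t10.eq_def
theorem pre3_261 : type_of% @Cfsg.Spor.BabyMonster.t10.congr_simp := @Cfsg.Spor.BabyMonster.t10.congr_simp
theorem pre3_262 : type_of% @Cfsg.Spor.BabyMonster.t9.eq_1 := @Cfsg.Spor.BabyMonster.t9.eq_1
theorem pre3_263 : type_of% @Cfsg.Spor.BabyMonster.t9.eq_def := @Cfsg.Spor.BabyMonster.t9.eq_def
theorem pre3_264 : type_of% @Cfsg.Spor.BabyMonster.t9.congr_simp := @Cfsg.Spor.BabyMonster.t9.congr_simp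
theorem pre3_265 : type_of% @Cfsg.Spor.BabyMonster.t4.eq_1 := @Cfsg.Spor.BabyMonster.t4.eq_1
theorem pre3_266 : type_of% @Cfsg.Spor.BabyMonster.t4.eq_def := @Cfsg.Spor.BabyMonster.t4.eq_def
theorem pre3_267 : type_of% @Cfsg.Spor.BabyMonster.t4.congr_simp := @Cfsg.Spor.BabyMonster.t4.congr_simp
theorem pre3_268 : type_of% @Cfsg.Spor.BabyMonster.Gen.ctorIdx.eq_1 := @Cfsg.Spor.BabyMonster.Gen.ctorIdx.eq_1
theorem pre3_269 : type_of% @Cfsg.Spor.BabyMonster.Gen.ctorIdx.eq_def := @Cfsg.Spor.BabyMonster.Gen.ctorIdx.eq_def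
theorem pre3_270 : type_of% @Cfsg.Spor.BabyMonster.Gen.ctorIdx.congr_simp := @Cfsg.Spor.BabyMonster.Gen.ctorIdx.congr_simp
theorem pre3_271 : type_of% @Cfsg.Spor.BabyMonster.t7.eq_1 := @Cfsg.Spor.BabyMonster.t7.eq_1
theorem pre3_272 : type_of% @Cfsg.Spor.BabyMonster.t7.eq_def := @Cfsg.Spor.BabyMonster.t7.eq_def
theorem pre3_273 : type_of% @Cfsg.Spor.BabyMonster.t7.congr_simp := @Cfsg.Spor.BabyMonster.t7.congr_simp
theorem pre3_274 : type_of% @Cfsg.Spor.BabyMonster.eq_1 := @Cfsg.Spor.BabyMonster.eq_1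
theorem pre3_275 : type_of% @Cfsg.Spor.BabyMonster.eq_def := @Cfsg.Spor.BabyMonster.eq_def
theorem pre3_276 : type_of% @Cfsg.Spor.BabyMonster.congr_simp := @Cfsg.Spor.BabyMonster.congr_simp
theorem pre3_277 : type_of% @Cfsg.Spor.BabyMonster.instDecidableEqGen.eq_1 := @Cfsg.Spor.BabyMonster.instDecidableEqGen.eq_1
theorem pre3_278 : type_of% @Cfsg.Spor.BabyMonster.instDecidableEqGen.eq_def := @Cfsg.Spor.BabyMonster.instDecidableEqGen.eq_def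
theorem pre3_279 : type_of% @Cfsg.Spor.BabyMonster.instDecidableEqGen.congr_simp := @Cfsg.Spor.BabyMonster.instDecidableEqGen.congr_simp
theorem pre3_280 : type_of% @Cfsg.Spor.BabyMonster.t8.eq_1 := @Cfsg.Spor.BabyMonster.t8.eq_1
theorem pre3_281 : type_of% @Cfsg.Spor.BabyMonster.t8.eq_def := @Cfsg.Spor.BabyMonster.t8.eq_def
theorem pre3_282 : type_of% @Cfsg.Spor.BabyMonster.t8.congr_simp := @Cfsg.Spor.BabyMonster.t8.congr_simp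
theorem pre3_283 : type_of% @Cfsg.Spor.BabyMonster.Gen.toCtorIdx.eq_1 := @Cfsg.Spor.BabyMonster.Gen.toCtorIdx.eq_1
theorem pre3_284 : type_of% @Cfsg.Spor.BabyMonster.Gen.toCtorIdx.eq_def := @Cfsg.Spor.BabyMonster.Gen.toCtorIdx.eq_def
theorem pre3_285 : type_of% @Cfsg.Spor.BabyMonster.Gen.toCtorIdx.congr_simp := @Cfsg.Spor.BabyMonster.Gen.toCtorIdx.congr_simp
theorem pre3_286 : type_of% @Cfsg.Spor.BabyMonster.Gen.ofNat.eq_1 := @Cfsg.Spor.BabyMonster.Gen.ofNat.eq_1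
theorem pre3_287 : type_of% @Cfsg.Spor.BabyMonster.Gen.ofNat.eq_def := @Cfsg.Spor.BabyMonster.Gen.ofNat.eq_def
theorem pre3_288 : type_of% @Cfsg.Spor.BabyMonster.Gen.ofNat.congr_simp := @Cfsg.Spor.BabyMonster.Gen.ofNat.congr_simp
theorem pre3_289 : type_of% @Cfsg.Spor.BabyMonster.Gen.ctorElimType.eq_1 := @Cfsg.Spor.BabyMonster.Gen.ctorElimType.eq_1
theorem pre3_290 : type_of% @Cfsg.Spor.BabyMonster.Gen.ctorElimType.eq_def := @Cfsg.Spor.BabyMonster.Gen.ctorElimType.eq_def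
theorem pre3_291 : type_of% @Cfsg.Spor.BabyMonster.Gen.ctorElimType.congr_simp := @Cfsg.Spor.BabyMonster.Gen.ctorElimType.congr_simp
theorem pre3_292 : type_of% @Cfsg.Spor.BabyMonster.t1.eq_1 := @Cfsg.Spor.BabyMonster.t1.eq_1
theorem pre3_293 : type_of% @Cfsg.Spor.BabyMonster.t1.eq_def := @Cfsg.Spor.BabyMonster.t1.eq_def
theorem pre3_294 : type_of% @Cfsg.Spor.BabyMonster.t1.congr_simp := @Cfsg.Spor.BabyMonster.t1.congr_simp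
theorem pre3_295 : type_of% @Cfsg.Spor.BabyMonster.Gen.noConfusionType.eq_1 := @Cfsg.Spor.BabyMonster.Gen.noConfusionType.eq_1
theorem pre3_296 : type_of% @Cfsg.Spor.BabyMonster.Gen.noConfusionType.eq_def := @Cfsg.Spor.BabyMonster.Gen.noConfusionType.eq_def
theorem pre3_297 : type_of% @Cfsg.Spor.BabyMonster.Gen.noConfusionType.congr_simp := @Cfsg.Spor.BabyMonster.Gen.noConfusionType.congr_simp
theorem pre3_298 : type_of% @Cfsg.Spor.BabyMonster.t5.eq_1 := @Cfsg.Spor.BabyMonster.t5.eq_1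
theorem pre3_299 : type_of% @Cfsg.Spor.BabyMonster.t5.eq_def := @Cfsg.Spor.BabyMonster.t5.eq_def
theorem pre3_300 : type_of% @Cfsg.Spor.BabyMonster.t5.congr_simp := @Cfsg.Spor.BabyMonster.t5.congr_simp
theorem pre3_301 : type_of% @Cfsg.Spor.Bimonster.Gen.toCtorIdx.eq_1 := @Cfsg.Spor.Bimonster.Gen.toCtorIdx.eq_1
theorem pre3_302 : type_of% @Cfsg.Spor.Bimonster.Gen.toCtorIdx.eq_def := @Cfsg.Spor.Bimonster.Gen.toCtorIdx.eq_def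
theorem pre3_303 : type_of% @Cfsg.Spor.Bimonster.Gen.toCtorIdx.congr_simp := @Cfsg.Spor.Bimonster.Gen.toCtorIdx.congr_simp
theorem pre3_304 : type_of% @Cfsg.Spor.Bimonster.Gen.ofNat.eq_1 := @Cfsg.Spor.Bimonster.Gen.ofNat.eq_1
theorem pre3_305 : type_of% @Cfsg.Spor.Bimonster.Gen.ofNat.eq_def := @Cfsg.Spor.Bimonster.Gen.ofNat.eq_def
theorem pre3_306 : type_of% @Cfsg.Spor.Bimonster.Gen.ofNat.congr_simp := @Cfsg.Spor.Bimonster.Gen.ofNat.congr_simp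
theorem pre3_307 : type_of% @Cfsg.Spor.Monster.eq_1 := @Cfsg.Spor.Monster.eq_1
theorem pre3_308 : type_of% @Cfsg.Spor.Monster.eq_def := @Cfsg.Spor.Monster.eq_def
theorem pre3_309 : type_of% @Cfsg.Spor.Monster.congr_simp := @Cfsg.Spor.Monster.congr_simp
theorem pre3_310 : type_of% @Cfsg.Spor.Bimonster.e1.eq_1 := @Cfsg.Spor.Bimonster.e1.eq_1
theorem pre3_311 : type_of% @Cfsg.Spor.Bimonster.e1.eq_def := @Cfsg.Spor.Bimonster.e1.eq_def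
theorem pre3_312 : type_of% @Cfsg.Spor.Bimonster.e1.congr_simp := @Cfsg.Spor.Bimonster.e1.congr_simp
theorem pre3_313 : type_of% @Cfsg.Spor.Bimonster.instDecidableEqGen.eq_1 := @Cfsg.Spor.Bimonster.instDecidableEqGen.eq_1
theorem pre3_314 : type_of% @Cfsg.Spor.Bimonster.instDecidableEqGen.eq_def := @Cfsg.Spor.Bimonster.instDecidableEqGen.eq_def
theorem pre3_315 : type_of% @Cfsg.Spor.Bimonster.instDecidableEqGen.congr_simp := @Cfsg.Spor.Bimonster.instDecidableEqGen.congr_simp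
theorem pre3_316 : type_of% @Cfsg.Spor.Bimonster.b2.eq_1 := @Cfsg.Spor.Bimonster.b2.eq_1
theorem pre3_317 : type_of% @Cfsg.Spor.Bimonster.b2.eq_def := @Cfsg.Spor.Bimonster.b2.eq_def
theorem pre3_318 : type_of% @Cfsg.Spor.Bimonster.b2.congr_simp := @Cfsg.Spor.Bimonster.b2.congr_simp
theorem pre3_319 : type_of% @Cfsg.Spor.Bimonster.Gen.ctorIdx.eq_1 := @Cfsg.Spor.Bimonster.Gen.ctorIdx.eq_1
theorem pre3_320 : type_of% @Cfsg.Spor.Bimonster.Gen.ctorIdx.eq_def := @Cfsg.Spor.Bimonster.Gen.ctorIdx.eq_def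
theorem pre3_321 : type_of% @Cfsg.Spor.Bimonster.Gen.ctorIdx.congr_simp := @Cfsg.Spor.Bimonster.Gen.ctorIdx.congr_simp
theorem pre3_322 : type_of% @Cfsg.Spor.Bimonster.Gen.noConfusionType.eq_1 := @Cfsg.Spor.Bimonster.Gen.noConfusionType.eq_1
theorem pre3_323 : type_of% @Cfsg.Spor.Bimonster.Gen.noConfusionType.eq_def := @Cfsg.Spor.Bimonster.Gen.noConfusionType.eq_def
theorem pre3_324 : type_of% @Cfsg.Spor.Bimonster.Gen.noConfusionType.congr_simp := @Cfsg.Spor.Bimonster.Gen.noConfusionType.congr_simp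
theorem pre3_325 : type_of% @Cfsg.Spor.Bimonster.b3.eq_1 := @Cfsg.Spor.Bimonster.b3.eq_1
theorem pre3_326 : type_of% @Cfsg.Spor.Bimonster.b3.eq_def := @Cfsg.Spor.Bimonster.b3.eq_def
theorem pre3_327 : type_of% @Cfsg.Spor.Bimonster.b3.congr_simp := @Cfsg.Spor.Bimonster.b3.congr_simp
theorem pre3_328 : type_of% @Cfsg.Spor.IsoM.eq_1 := @Cfsg.Spor.IsoM.eq_1
theorem pre3_329 : type_of% @Cfsg.Spor.IsoM.eq_def := @Cfsg.Spor.IsoM.eq_def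
theorem pre3_330 : type_of% @Cfsg.Spor.IsoM.congr_simp := @Cfsg.Spor.IsoM.congr_simp
theorem pre3_331 : type_of% @Cfsg.Spor.Bimonster.b1.eq_1 := @Cfsg.Spor.Bimonster.b1.eq_1
theorem pre3_332 : type_of% @Cfsg.Spor.Bimonster.b1.eq_def := @Cfsg.Spor.Bimonster.b1.eq_def
theorem pre3_333 : type_of% @Cfsg.Spor.Bimonster.b1.congr_simp := @Cfsg.Spor.Bimonster.b1.congr_simp
theorem pre3_334 : type_of% @Cfsg.Spor.Bimonster.e3.eq_1 := @Cfsg.Spor.Bimonster.e3.eq_1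
theorem pre3_335 : type_of% @Cfsg.Spor.Bimonster.e3.eq_def := @Cfsg.Spor.Bimonster.e3.eq_def
theorem pre3_336 : type_of% @Cfsg.Spor.Bimonster.e3.congr_simp := @Cfsg.Spor.Bimonster.e3.congr_simp
theorem pre3_337 : type_of% @Cfsg.Spor.Bimonster.f3.eq_1 := @Cfsg.Spor.Bimonster.f3.eq_1
theorem pre3_338 : type_of% @Cfsg.Spor.Bimonster.f3.eq_def := @Cfsg.Spor.Bimonster.f3.eq_def
theorem pre3_339 : type_of% @Cfsg.Spor.Bimonster.f3.congr_simp := @Cfsg.Spor.Bimonster.f3.congr_simp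
theorem pre3_340 : type_of% @Cfsg.Spor.Bimonster.eq_1 := @Cfsg.Spor.Bimonster.eq_1
theorem pre3_341 : type_of% @Cfsg.Spor.Bimonster.eq_def := @Cfsg.Spor.Bimonster.eq_def
theorem pre3_342 : type_of% @Cfsg.Spor.Bimonster.congr_simp := @Cfsg.Spor.Bimonster.congr_simp
theorem pre3_343 : type_of% @Cfsg.Spor.Bimonster.f1.eq_1 := @Cfsg.Spor.Bimonster.f1.eq_1
theorem pre3_344 : type_of% @Cfsg.Spor.Bimonster.f1.eq_def := @Cfsg.Spor.Bimonster.f1.eq_def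
theorem pre3_345 : type_of% @Cfsg.Spor.Bimonster.f1.congr_simp := @Cfsg.Spor.Bimonster.f1.congr_simp
theorem pre3_346 : type_of% @Cfsg.Spor.Bimonster.e2.eq_1 := @Cfsg.Spor.Bimonster.e2.eq_1
theorem pre3_347 : type_of% @Cfsg.Spor.Bimonster.e2.eq_def := @Cfsg.Spor.Bimonster.e2.eq_def
theorem pre3_348 : type_of% @Cfsg.Spor.Bimonster.e2.congr_simp := @Cfsg.Spor.Bimonster.e2.congr_simp
theorem pre3_349 : type_of% @Cfsg.Spor.Bimonster.c1.eq_1 := @Cfsg.Spor.Bimonster.c1.eq_1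
theorem pre3_350 : type_of% @Cfsg.Spor.Bimonster.c1.eq_def := @Cfsg.Spor.Bimonster.c1.eq_def
theorem pre3_351 : type_of% @Cfsg.Spor.Bimonster.c1.congr_simp := @Cfsg.Spor.Bimonster.c1.congr_simp
theorem pre3_352 : type_of% @Cfsg.Spor.Bimonster.a.eq_1 := @Cfsg.Spor.Bimonster.a.eq_1
theorem pre3_353 : type_of% @Cfsg.Spor.Bimonster.a.eq_def := @Cfsg.Spor.Bimonster.a.eq_def
theorem pre3_354 : type_of% @Cfsg.Spor.Bimonster.a.congr_simp := @Cfsg.Spor.Bimonster.a.congr_simp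
theorem pre3_355 : type_of% @Cfsg.Spor.Bimonster.edges.eq_1 := @Cfsg.Spor.Bimonster.edges.eq_1
theorem pre3_356 : type_of% @Cfsg.Spor.Bimonster.edges.eq_def := @Cfsg.Spor.Bimonster.edges.eq_def
theorem pre3_357 : type_of% @Cfsg.Spor.Bimonster.edges.congr_simp := @Cfsg.Spor.Bimonster.edges.congr_simp
theorem pre3_358 : type_of% @Cfsg.Spor.Bimonster.extra.eq_1 := @Cfsg.Spor.Bimonster.extra.eq_1
theorem pre3_359 : type_of% @Cfsg.Spor.Bimonster.extra.eq_def := @Cfsg.Spor.Bimonster.extra.eq_def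
theorem pre3_360 : type_of% @Cfsg.Spor.Bimonster.extra.congr_simp := @Cfsg.Spor.Bimonster.extra.congr_simp
theorem pre3_361 : type_of% @Cfsg.Spor.Bimonster.d3.eq_1 := @Cfsg.Spor.Bimonster.d3.eq_1
theorem pre3_362 : type_of% @Cfsg.Spor.Bimonster.d3.eq_def := @Cfsg.Spor.Bimonster.d3.eq_def
theorem pre3_363 : type_of% @Cfsg.Spor.Bimonster.d3.congr_simp := @Cfsg.Spor.Bimonster.d3.congr_simp
theorem pre3_364 : type_of% @Cfsg.Spor.Bimonster.f2.eq_1 := @Cfsg.Spor.Bimonster.f2.eq_1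
theorem pre3_365 : type_of% @Cfsg.Spor.Bimonster.f2.eq_def := @Cfsg.Spor.Bimonster.f2.eq_def
theorem pre3_366 : type_of% @Cfsg.Spor.Bimonster.f2.congr_simp := @Cfsg.Spor.Bimonster.f2.congr_simp
theorem pre3_367 : type_of% @Cfsg.Spor.Bimonster.c3.eq_1 := @Cfsg.Spor.Bimonster.c3.eq_1
theorem pre3_368 : type_of% @Cfsg.Spor.Bimonster.c3.eq_def := @Cfsg.Spor.Bimonster.c3.eq_def
theorem pre3_369 : type_of% @Cfsg.Spor.Bimonster.c3.congr_simp := @Cfsg.Spor.Bimonster.c3.congr_simp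
theorem pre3_370 : type_of% @Cfsg.Spor.Bimonster.d1.eq_1 := @Cfsg.Spor.Bimonster.d1.eq_1
theorem pre3_371 : type_of% @Cfsg.Spor.Bimonster.d1.eq_def := @Cfsg.Spor.Bimonster.d1.eq_def
theorem pre3_372 : type_of% @Cfsg.Spor.Bimonster.d1.congr_simp := @Cfsg.Spor.Bimonster.d1.congr_simp
theorem pre3_373 : type_of% @Cfsg.Spor.Bimonster.d2.eq_1 := @Cfsg.Spor.Bimonster.d2.eq_1
theorem pre3_374 : type_of% @Cfsg.Spor.Bimonster.d2.eq_def := @Cfsg.Spor.Bimonster.d2.eq_def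
theorem pre3_375 : type_of% @Cfsg.Spor.Bimonster.d2.congr_simp := @Cfsg.Spor.Bimonster.d2.congr_simp
theorem pre3_376 : type_of% @Cfsg.Spor.Bimonster.Gen.ctorElimType.eq_1 := @Cfsg.Spor.Bimonster.Gen.ctorElimType.eq_1
theorem pre3_377 : type_of% @Cfsg.Spor.Bimonster.Gen.ctorElimType.eq_def := @Cfsg.Spor.Bimonster.Gen.ctorElimType.eq_def
theorem pre3_378 : type_of% @Cfsg.Spor.Bimonster.Gen.ctorElimType.congr_simp := @Cfsg.Spor.Bimonster.Gen.ctorElimType.congr_simp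
theorem pre3_379 : type_of% @Cfsg.Spor.Bimonster.c2.eq_1 := @Cfsg.Spor.Bimonster.c2.eq_1
theorem pre3_380 : type_of% @Cfsg.Spor.Bimonster.c2.eq_def := @Cfsg.Spor.Bimonster.c2.eq_def
theorem pre3_381 : type_of% @Cfsg.Spor.Bimonster.c2.congr_simp := @Cfsg.Spor.Bimonster.c2.congr_simp
end CfOD
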