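import Mathlib
import Cfsg.Prelude.Def_Spor_HN
import Cfsg.Prelude.Def_Spor_Ly
import Cfsg.Prelude.Def_Spor_Th
import Cfsg.Prelude.Def_Spor_J4
import Cfsg.Prelude.Def_Solvable
import Cfsg.Prelude.Def_Exceptional
/-! Unique holder of the equation and congruence lemmas Lean writes on demand for these definition modules. -/
set_option linter.all false
namespace CfOD
theorem pre4_1 : type_of% @Cfsg.Spor.HN.Gen.noConfusionType.eq_1 := @Cfsg.Spor.HN.Gen.noConfusionType.eq_1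
theorem pre4_2 : type_of% @Cfsg.Spor.HN.Gen.noConfusionType.eq_def := @Cfsg.Spor.HN.Gen.noConfusionType.eq_def
theorem pre4_3 : type_of% @Cfsg.Spor.HN.Gen.noConfusionType.congr_simp := @Cfsg.Spor.HN.Gen.noConfusionType.congr_simp
theorem pre4_4 : type_of% @Cfsg.Spor.HN.Gen.ctorElimType.eq_1 := @Cfsg.Spor.HN.Gen.ctorElimType.eq_1
theorem pre4_5 : type_of% @Cfsg.Spor.HN.Gen.ctorElimType.eq_def := @Cfsg.Spor.HN.Gen.ctorElimType.eq_def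
theorem pre4_6 : type_of% @Cfsg.Spor.HN.Gen.ctorElimType.congr_simp := @Cfsg.Spor.HN.Gen.ctorElimType.congr_simp
theorem pre4_7 : type_of% @Cfsg.Spor.IsoHN.eq_1 := @Cfsg.Spor.IsoHN.eq_1
theorem pre4_8 : type_of% @Cfsg.Spor.IsoHN.eq_def := @Cfsg.Spor.IsoHN.eq_def
theorem pre4_9 : type_of% @Cfsg.Spor.IsoHN.congr_simp := @Cfsg.Spor.IsoHN.congr_simp
theorem pre4_10 : type_of% @Cfsg.Spor.HN.Gen.ofNat.eq_1 := @Cfsg.Spor.HN.Gen.ofNat.eq_1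
theorem pre4_11 : type_of% @Cfsg.Spor.HN.Gen.ofNat.eq_def := @Cfsg.Spor.HN.Gen.ofNat.eq_def
theorem pre4_12 : type_of% @Cfsg.Spor.HN.Gen.ofNat.congr_simp := @Cfsg.Spor.HN.Gen.ofNat.congr_simp
theorem pre4_13 : type_of% @Cfsg.Spor.HN.Gen.toCtorIdx.eq_1 := @Cfsg.Spor.HN.Gen.toCtorIdx.eq_1
theorem pre4_14 : type_of% @Cfsg.Spor.HN.Gen.toCtorIdx.eq_def := @Cfsg.Spor.HN.Gen.toCtorIdx.eq_def
theorem pre4_15 : type_of% @Cfsg.Spor.HN.Gen.toCtorIdx.congr_simp := @Cfsg.Spor.HN.Gen.toCtorIdx.congr_simp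
theorem pre4_16 : type_of% @Cfsg.Spor.HN.y.eq_1 := @Cfsg.Spor.HN.y.eq_1
theorem pre4_17 : type_of% @Cfsg.Spor.HN.y.eq_def := @Cfsg.Spor.HN.y.eq_def
theorem pre4_18 : type_of% @Cfsg.Spor.HN.y.congr_simp := @Cfsg.Spor.HN.y.congr_simp
theorem pre4_19 : type_of% @Cfsg.Spor.HN.Gen.ctorIdx.eq_1 := @Cfsg.Spor.HN.Gen.ctorIdx.eq_1
theorem pre4_20 : type_of% @Cfsg.Spor.HN.Gen.ctorIdx.eq_def := @Cfsg.Spor.HN.Gen.ctorIdx.eq_def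
theorem pre4_21 : type_of% @Cfsg.Spor.HN.Gen.ctorIdx.congr_simp := @Cfsg.Spor.HN.Gen.ctorIdx.congr_simp
theorem pre4_22 : type_of% @Cfsg.Spor.HN.edges.eq_1 := @Cfsg.Spor.HN.edges.eq_1
theorem pre4_23 : type_of% @Cfsg.Spor.HN.edges.eq_def := @Cfsg.Spor.HN.edges.eq_def
theorem pre4_24 : type_of% @Cfsg.Spor.HN.edges.congr_simp := @Cfsg.Spor.HN.edges.congr_simp
theorem pre4_25 : type_of% @Cfsg.Spor.HN.extra.eq_1 := @Cfsg.Spor.HN.extra.eq_1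
theorem pre4_26 : type_of% @Cfsg.Spor.HN.extra.eq_def := @Cfsg.Spor.HN.extra.eq_def
theorem pre4_27 : type_of% @Cfsg.Spor.HN.extra.congr_simp := @Cfsg.Spor.HN.extra.congr_simp
theorem pre4_28 : type_of% @Cfsg.Spor.HN.z.eq_1 := @Cfsg.Spor.HN.z.eq_1
theorem pre4_29 : type_of% @Cfsg.Spor.HN.z.eq_def := @Cfsg.Spor.HN.z.eq_def
theorem pre4_30 : type_of% @Cfsg.Spor.HN.z.congr_simp := @Cfsg.Spor.HN.z.congr_simp
theorem pre4_31 : type_of% @Cfsg.Spor.HN.x.eq_1 := @Cfsg.Spor.HN.x.eq_1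
theorem pre4_32 : type_of% @Cfsg.Spor.HN.x.eq_def := @Cfsg.Spor.HN.x.eq_def
theorem pre4_33 : type_of% @Cfsg.Spor.HN.x.congr_simp := @Cfsg.Spor.HN.x.congr_simp
theorem pre4_34 : type_of% @Cfsg.Spor.HN.eq_1 := @Cfsg.Spor.HN.eq_1
theorem pre4_35 : type_of% @Cfsg.Spor.HN.eq_def := @Cfsg.Spor.HN.eq_def
theorem pre4_36 : type_of% @Cfsg.Spor.HN.congr_simp := @Cfsg.Spor.HN.congr_simp
theorem pre4_37 : type_of% @Cfsg.Spor.HN.instDecidableEqGen.eq_1 := @Cfsg.Spor.HN.instDecidableEqGen.eq_1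
theorem pre4_38 : type_of% @Cfsg.Spor.HN.instDecidableEqGen.eq_def := @Cfsg.Spor.HN.instDecidableEqGen.eq_def
theorem pre4_39 : type_of% @Cfsg.Spor.HN.instDecidableEqGen.congr_simp := @Cfsg.Spor.HN.instDecidableEqGen.congr_simp
theorem pre4_40 : type_of% @Cfsg.Spor.HN.t.eq_1 := @Cfsg.Spor.HN.t.eq_1
theorem pre4_41 : type_of% @Cfsg.Spor.HN.t.eq_def := @Cfsg.Spor.HN.t.eq_def
theorem pre4_42 : type_of% @Cfsg.Spor.HN.t.congr_simp := @Cfsg.Spor.HN.t.congr_simp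
theorem pre4_43 : type_of% @Cfsg.Spor.Ly.x29.eq_1 := @Cfsg.Spor.Ly.x29.eq_1
theorem pre4_44 : type_of% @Cfsg.Spor.Ly.x29.eq_def := @Cfsg.Spor.Ly.x29.eq_def
theorem pre4_45 : type_of% @Cfsg.Spor.Ly.x29.congr_simp := @Cfsg.Spor.Ly.x29.congr_simp
theorem pre4_46 : type_of% @Cfsg.Spor.Ly.c4.eq_1 := @Cfsg.Spor.Ly.c4.eq_1
theorem pre4_47 : type_of% @Cfsg.Spor.Ly.c4.eq_def := @Cfsg.Spor.Ly.c4.eq_def
theorem pre4_48 : type_of% @Cfsg.Spor.Ly.c4.congr_simp := @Cfsg.Spor.Ly.c4.congr_simp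
theorem pre4_49 : type_of% @Cfsg.Spor.Ly.x165.eq_1 := @Cfsg.Spor.Ly.x165.eq_1
theorem pre4_50 : type_of% @Cfsg.Spor.Ly.x165.eq_def := @Cfsg.Spor.Ly.x165.eq_def
theorem pre4_51 : type_of% @Cfsg.Spor.Ly.x165.congr_simp := @Cfsg.Spor.Ly.x165.congr_simp
theorem pre4_52 : type_of% @Cfsg.Spor.Ly.Gen.ofNat.eq_1 := @Cfsg.Spor.Ly.Gen.ofNat.eq_1
theorem pre4_53 : type_of% @Cfsg.Spor.Ly.Gen.ofNat.eq_def := @Cfsg.Spor.Ly.Gen.ofNat.eq_def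
theorem pre4_54 : type_of% @Cfsg.Spor.Ly.Gen.ofNat.congr_simp := @Cfsg.Spor.Ly.Gen.ofNat.congr_simp
theorem pre4_55 : type_of% @Cfsg.Spor.Ly.x129.eq_1 := @Cfsg.Spor.Ly.x129.eq_1
theorem pre4_56 : type_of% @Cfsg.Spor.Ly.x129.eq_def := @Cfsg.Spor.Ly.x129.eq_def
theorem pre4_57 : type_of% @Cfsg.Spor.Ly.x129.congr_simp := @Cfsg.Spor.Ly.x129.congr_simp
theorem pre4_58 : type_of% @Cfsg.Spor.Ly.z.eq_1 := @Cfsg.Spor.Ly.z.eq_1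
theorem pre4_59 : type_of% @Cfsg.Spor.Ly.z.eq_def := @Cfsg.Spor.Ly.z.eq_def
theorem pre4_60 : type_of% @Cfsg.Spor.Ly.z.congr_simp := @Cfsg.Spor.Ly.z.congr_simp
theorem pre4_61 : type_of% @Cfsg.Spor.Ly.Gen.toCtorIdx.eq_1 := @Cfsg.Spor.Ly.Gen.toCtorIdx.eq_1
theorem pre4_62 : type_of% @Cfsg.Spor.Ly.Gen.toCtorIdx.eq_def := @Cfsg.Spor.Ly.Gen.toCtorIdx.eq_def
theorem pre4_63 : type_of% @Cfsg.Spor.Ly.Gen.toCtorIdx.congr_simp := @Cfsg.Spor.Ly.Gen.toCtorIdx.congr_simp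
theorem pre4_64 : type_of% @Cfsg.Spor.Ly.c.eq_1 := @Cfsg.Spor.Ly.c.eq_1
theorem pre4_65 : type_of% @Cfsg.Spor.Ly.c.eq_def := @Cfsg.Spor.Ly.c.eq_def
theorem pre4_66 : type_of% @Cfsg.Spor.Ly.c.congr_simp := @Cfsg.Spor.Ly.c.congr_simp
theorem pre4_67 : type_of% @Cfsg.Spor.Ly.x367.eq_1 := @Cfsg.Spor.Ly.x367.eq_1
theorem pre4_68 : type_of% @Cfsg.Spor.Ly.x367.eq_def := @Cfsg.Spor.Ly.x367.eq_def
theorem pre4_69 : type_of% @Cfsg.Spor.Ly.x367.congr_simp := @Cfsg.Spor.Ly.x367.congr_simp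
theorem pre4_70 : type_of% @Cfsg.Spor.IsoLy.eq_1 := @Cfsg.Spor.IsoLy.eq_1
theorem pre4_71 : type_of% @Cfsg.Spor.IsoLy.eq_def := @Cfsg.Spor.IsoLy.eq_def
theorem pre4_72 : type_of% @Cfsg.Spor.IsoLy.congr_simp := @Cfsg.Spor.IsoLy.congr_simp
theorem pre4_73 : type_of% @Cfsg.Spor.Ly.Gen.ctorIdx.eq_1 := @Cfsg.Spor.Ly.Gen.ctorIdx.eq_1
theorem pre4_74 : type_of% @Cfsg.Spor.Ly.Gen.ctorIdx.eq_def := @Cfsg.Spor.Ly.Gen.ctorIdx.eq_def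
theorem pre4_75 : type_of% @Cfsg.Spor.Ly.Gen.ctorIdx.congr_simp := @Cfsg.Spor.Ly.Gen.ctorIdx.congr_simp
theorem pre4_76 : type_of% @Cfsg.Spor.Ly.c5.eq_1 := @Cfsg.Spor.Ly.c5.eq_1
theorem pre4_77 : type_of% @Cfsg.Spor.Ly.c5.eq_def := @Cfsg.Spor.Ly.c5.eq_def
theorem pre4_78 : type_of% @Cfsg.Spor.Ly.c5.congr_simp := @Cfsg.Spor.Ly.c5.congr_simp
theorem pre4_79 : type_of% @Cfsg.Spor.Ly.Gen.noConfusionType.eq_1 := @Cfsg.Spor.Ly.Gen.noConfusionType.eq_1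
theorem pre4_80 : type_of% @Cfsg.Spor.Ly.Gen.noConfusionType.eq_def := @Cfsg.Spor.Ly.Gen.noConfusionType.eq_def
theorem pre4_81 : type_of% @Cfsg.Spor.Ly.Gen.noConfusionType.congr_simp := @Cfsg.Spor.Ly.Gen.noConfusionType.congr_simp
theorem pre4_82 : type_of% @Cfsg.Spor.Ly.x25.eq_1 := @Cfsg.Spor.Ly.x25.eq_1
theorem pre4_83 : type_of% @Cfsg.Spor.Ly.x25.eq_def := @Cfsg.Spor.Ly.x25.eq_def
theorem pre4_84 : type_of% @Cfsg.Spor.Ly.x25.congr_simp := @Cfsg.Spor.Ly.x25.congr_simp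
theorem pre4_85 : type_of% @Cfsg.Spor.Ly.extra.eq_1 := @Cfsg.Spor.Ly.extra.eq_1
theorem pre4_86 : type_of% @Cfsg.Spor.Ly.extra.eq_def := @Cfsg.Spor.Ly.extra.eq_def
theorem pre4_87 : type_of% @Cfsg.Spor.Ly.extra.congr_simp := @Cfsg.Spor.Ly.extra.congr_simp
theorem pre4_88 : type_of% @Cfsg.Spor.Ly.edges.eq_1 := @Cfsg.Spor.Ly.edges.eq_1
theorem pre4_89 : type_of% @Cfsg.Spor.Ly.edges.eq_def := @Cfsg.Spor.Ly.edges.eq_def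
theorem pre4_90 : type_of% @Cfsg.Spor.Ly.edges.congr_simp := @Cfsg.Spor.Ly.edges.congr_simp
theorem pre4_91 : type_of% @Cfsg.Spor.Ly.x366.eq_1 := @Cfsg.Spor.Ly.x366.eq_1
theorem pre4_92 : type_of% @Cfsg.Spor.Ly.x366.eq_def := @Cfsg.Spor.Ly.x366.eq_def
theorem pre4_93 : type_of% @Cfsg.Spor.Ly.x366.congr_simp := @Cfsg.Spor.Ly.x366.congr_simp
theorem pre4_94 : type_of% @Cfsg.Spor.Ly.u.eq_1 := @Cfsg.Spor.Ly.u.eq_1
theorem pre4_95 : type_of% @Cfsg.Spor.Ly.u.eq_def := @Cfsg.Spor.Ly.u.eq_def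
theorem pre4_96 : type_of% @Cfsg.Spor.Ly.u.congr_simp := @Cfsg.Spor.Ly.u.congr_simp
theorem pre4_97 : type_of% @Cfsg.Spor.Ly.Gen.ctorElimType.eq_1 := @Cfsg.Spor.Ly.Gen.ctorElimType.eq_1
theorem pre4_98 : type_of% @Cfsg.Spor.Ly.Gen.ctorElimType.eq_def := @Cfsg.Spor.Ly.Gen.ctorElimType.eq_def
theorem pre4_99 : type_of% @Cfsg.Spor.Ly.Gen.ctorElimType.congr_simp := @Cfsg.Spor.Ly.Gen.ctorElimType.congr_simp
theorem pre4_100 : type_of% @Cfsg.Spor.Ly.x23.eq_1 := @Cfsg.Spor.Ly.x23.eq_1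
theorem pre4_101 : type_of% @Cfsg.Spor.Ly.x23.eq_def := @Cfsg.Spor.Ly.x23.eq_def
theorem pre4_102 : type_of% @Cfsg.Spor.Ly.x23.congr_simp := @Cfsg.Spor.Ly.x23.congr_simp
theorem pre4_103 : type_of% @Cfsg.Spor.Ly.eq_1 := @Cfsg.Spor.Ly.eq_1
theorem pre4_104 : type_of% @Cfsg.Spor.Ly.eq_def := @Cfsg.Spor.Ly.eq_def
theorem pre4_105 : type_of% @Cfsg.Spor.Ly.congr_simp := @Cfsg.Spor.Ly.congr_simp
theorem pre4_106 : type_of% @Cfsg.Spor.Ly.x370.eq_1 := @Cfsg.Spor.Ly.x370.eq_1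
theorem pre4_107 : type_of% @Cfsg.Spor.Ly.x370.eq_def := @Cfsg.Spor.Ly.x370.eq_def
theorem pre4_108 : type_of% @Cfsg.Spor.Ly.x370.congr_simp := @Cfsg.Spor.Ly.x370.congr_simp
theorem pre4_109 : type_of% @Cfsg.Spor.Ly.x47.eq_1 := @Cfsg.Spor.Ly.x47.eq_1
theorem pre4_110 : type_of% @Cfsg.Spor.Ly.x47.eq_def := @Cfsg.Spor.Ly.x47.eq_def
theorem pre4_111 : type_of% @Cfsg.Spor.Ly.x47.congr_simp := @Cfsg.Spor.Ly.x47.congr_simp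
theorem pre4_112 : type_of% @Cfsg.Spor.Ly.c3.eq_1 := @Cfsg.Spor.Ly.c3.eq_1
theorem pre4_113 : type_of% @Cfsg.Spor.Ly.c3.eq_def := @Cfsg.Spor.Ly.c3.eq_def
theorem pre4_114 : type_of% @Cfsg.Spor.Ly.c3.congr_simp := @Cfsg.Spor.Ly.c3.congr_simp
theorem pre4_115 : type_of% @Cfsg.Spor.Ly.x167.eq_1 := @Cfsg.Spor.Ly.x167.eq_1
theorem pre4_116 : type_of% @Cfsg.Spor.Ly.x167.eq_def := @Cfsg.Spor.Ly.x167.eq_def
theorem pre4_117 : type_of% @Cfsg.Spor.Ly.x167.congr_simp := @Cfsg.Spor.Ly.x167.congr_simp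
theorem pre4_118 : type_of% @Cfsg.Spor.Ly.b.eq_1 := @Cfsg.Spor.Ly.b.eq_1
theorem pre4_119 : type_of% @Cfsg.Spor.Ly.b.eq_def := @Cfsg.Spor.Ly.b.eq_def
theorem pre4_120 : type_of% @Cfsg.Spor.Ly.b.congr_simp := @Cfsg.Spor.Ly.b.congr_simp
theorem pre4_121 : type_of% @Cfsg.Spor.Ly.a4.eq_1 := @Cfsg.Spor.Ly.a4.eq_1
theorem pre4_122 : type_of% @Cfsg.Spor.Ly.a4.eq_def := @Cfsg.Spor.Ly.a4.eq_def
theorem pre4_123 : type_of% @Cfsg.Spor.Ly.a4.congr_simp := @Cfsg.Spor.Ly.a4.congr_simp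
theorem pre4_124 : type_of% @Cfsg.Spor.Ly.d.eq_1 := @Cfsg.Spor.Ly.d.eq_1
theorem pre4_125 : type_of% @Cfsg.Spor.Ly.d.eq_def := @Cfsg.Spor.Ly.d.eq_def
theorem pre4_126 : type_of% @Cfsg.Spor.Ly.d.congr_simp := @Cfsg.Spor.Ly.d.congr_simp
theorem pre4_127 : type_of% @Cfsg.Spor.Ly.x365.eq_1 := @Cfsg.Spor.Ly.x365.eq_1
theorem pre4_128 : type_of% @Cfsg.Spor.Ly.x365.eq_def := @Cfsg.Spor.Ly.x365.eq_def
theorem pre4_129 : type_of% @Cfsg.Spor.Ly.x365.congr_simp := @Cfsg.Spor.Ly.x365.congr_simp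
theorem pre4_130 : type_of% @Cfsg.Spor.Ly.c2.eq_1 := @Cfsg.Spor.Ly.c2.eq_1
theorem pre4_131 : type_of% @Cfsg.Spor.Ly.c2.eq_def := @Cfsg.Spor.Ly.c2.eq_def
theorem pre4_132 : type_of% @Cfsg.Spor.Ly.c2.congr_simp := @Cfsg.Spor.Ly.c2.congr_simp
theorem pre4_133 : type_of% @Cfsg.Spor.Ly.x369.eq_1 := @Cfsg.Spor.Ly.x369.eq_1
theorem pre4_134 : type_of% @Cfsg.Spor.Ly.x369.eq_def := @Cfsg.Spor.Ly.x369.eq_def
theorem pre4_135 : type_of% @Cfsg.Spor.Ly.x369.congr_simp := @Cfsg.Spor.Ly.x369.congr_simp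
theorem pre4_136 : type_of% @Cfsg.Spor.Ly.a1.eq_1 := @Cfsg.Spor.Ly.a1.eq_1
theorem pre4_137 : type_of% @Cfsg.Spor.Ly.a1.eq_def := @Cfsg.Spor.Ly.a1.eq_def
theorem pre4_138 : type_of% @Cfsg.Spor.Ly.a1.congr_simp := @Cfsg.Spor.Ly.a1.congr_simp
theorem pre4_139 : type_of% @Cfsg.Spor.Ly.x166.eq_1 := @Cfsg.Spor.Ly.x166.eq_1
theorem pre4_140 : type_of% @Cfsg.Spor.Ly.x166.eq_def := @Cfsg.Spor.Ly.x166.eq_def
theorem pre4_141 : type_of% @Cfsg.Spor.Ly.x166.congr_simp := @Cfsg.Spor.Ly.x166.congr_simp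
theorem pre4_142 : type_of% @Cfsg.Spor.Ly.x163.eq_1 := @Cfsg.Spor.Ly.x163.eq_1
theorem pre4_143 : type_of% @Cfsg.Spor.Ly.x163.eq_def := @Cfsg.Spor.Ly.x163.eq_def
theorem pre4_144 : type_of% @Cfsg.Spor.Ly.x163.congr_simp := @Cfsg.Spor.Ly.x163.congr_simp
theorem pre4_145 : type_of% @Cfsg.Spor.Ly.a3.eq_1 := @Cfsg.Spor.Ly.a3.eq_1
theorem pre4_146 : type_of% @Cfsg.Spor.Ly.a3.eq_def := @Cfsg.Spor.Ly.a3.eq_def
theorem pre4_147 : type_of% @Cfsg.Spor.Ly.a3.congr_simp := @Cfsg.Spor.Ly.a3.congr_simp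
theorem pre4_148 : type_of% @Cfsg.Spor.Ly.instDecidableEqGen.eq_1 := @Cfsg.Spor.Ly.instDecidableEqGen.eq_1
theorem pre4_149 : type_of% @Cfsg.Spor.Ly.instDecidableEqGen.eq_def := @Cfsg.Spor.Ly.instDecidableEqGen.eq_def
theorem pre4_150 : type_of% @Cfsg.Spor.Ly.instDecidableEqGen.congr_simp := @Cfsg.Spor.Ly.instDecidableEqGen.congr_simp
theorem pre4_151 : type_of% @Cfsg.Spor.Ly.x24.eq_1 := @Cfsg.Spor.Ly.x24.eq_1
theorem pre4_152 : type_of% @Cfsg.Spor.Ly.x24.eq_def := @Cfsg.Spor.Ly.x24.eq_def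
theorem pre4_153 : type_of% @Cfsg.Spor.Ly.x24.congr_simp := @Cfsg.Spor.Ly.x24.congr_simp
theorem pre4_154 : type_of% @Cfsg.Spor.Ly.x371.eq_1 := @Cfsg.Spor.Ly.x371.eq_1
theorem pre4_155 : type_of% @Cfsg.Spor.Ly.x371.eq_def := @Cfsg.Spor.Ly.x371.eq_def
theorem pre4_156 : type_of% @Cfsg.Spor.Ly.x371.congr_simp := @Cfsg.Spor.Ly.x371.congr_simp
theorem pre4_157 : type_of% @Cfsg.Spor.Ly.c1.eq_1 := @Cfsg.Spor.Ly.c1.eq_1
theorem pre4_158 : type_of% @Cfsg.Spor.Ly.c1.eq_def := @Cfsg.Spor.Ly.c1.eq_def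
theorem pre4_159 : type_of% @Cfsg.Spor.Ly.c1.congr_simp := @Cfsg.Spor.Ly.c1.congr_simp
theorem pre4_160 : type_of% @Cfsg.Spor.Ly.x162.eq_1 := @Cfsg.Spor.Ly.x162.eq_1
theorem pre4_161 : type_of% @Cfsg.Spor.Ly.x162.eq_def := @Cfsg.Spor.Ly.x162.eq_def
theorem pre4_162 : type_of% @Cfsg.Spor.Ly.x162.congr_simp := @Cfsg.Spor.Ly.x162.congr_simp
theorem pre4_163 : type_of% @Cfsg.Spor.Ly.a2.eq_1 := @Cfsg.Spor.Ly.a2.eq_1
theorem pre4_164 : type_of% @Cfsg.Spor.Ly.a2.eq_def := @Cfsg.Spor.Ly.a2.eq_def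
theorem pre4_165 : type_of% @Cfsg.Spor.Ly.a2.congr_simp := @Cfsg.Spor.Ly.a2.congr_simp
theorem pre4_166 : type_of% @Cfsg.Spor.Ly.a.eq_1 := @Cfsg.Spor.Ly.a.eq_1
theorem pre4_167 : type_of% @Cfsg.Spor.Ly.a.eq_def := @Cfsg.Spor.Ly.a.eq_def
theorem pre4_168 : type_of% @Cfsg.Spor.Ly.a.congr_simp := @Cfsg.Spor.Ly.a.congr_simp
theorem pre4_169 : type_of% @Cfsg.Spor.Ly.x168.eq_1 := @Cfsg.Spor.Ly.x168.eq_1
theorem pre4_170 : type_of% @Cfsg.Spor.Ly.x168.eq_def := @Cfsg.Spor.Ly.x168.eq_def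
theorem pre4_171 : type_of% @Cfsg.Spor.Ly.x168.congr_simp := @Cfsg.Spor.Ly.x168.congr_simp
theorem pre4_172 : type_of% @Cfsg.Spor.Ly.x96.eq_1 := @Cfsg.Spor.Ly.x96.eq_1
theorem pre4_173 : type_of% @Cfsg.Spor.Ly.x96.eq_def := @Cfsg.Spor.Ly.x96.eq_def
theorem pre4_174 : type_of% @Cfsg.Spor.Ly.x96.congr_simp := @Cfsg.Spor.Ly.x96.congr_simp
theorem pre4_175 : type_of% @Cfsg.Spor.Ly.x364.eq_1 := @Cfsg.Spor.Ly.x364.eq_1
theorem pre4_176 : type_of% @Cfsg.Spor.Ly.x364.eq_def := @Cfsg.Spor.Ly.x364.eq_def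
theorem pre4_177 : type_of% @Cfsg.Spor.Ly.x364.congr_simp := @Cfsg.Spor.Ly.x364.congr_simp
theorem pre4_178 : type_of% @Cfsg.Spor.Ly.e.eq_1 := @Cfsg.Spor.Ly.e.eq_1
theorem pre4_179 : type_of% @Cfsg.Spor.Ly.e.eq_def := @Cfsg.Spor.Ly.e.eq_def
theorem pre4_180 : type_of% @Cfsg.Spor.Ly.e.congr_simp := @Cfsg.Spor.Ly.e.congr_simp
theorem pre4_181 : type_of% @Cfsg.Spor.Ly.x368.eq_1 := @Cfsg.Spor.Ly.x368.eq_1
theorem pre4_182 : type_of% @Cfsg.Spor.Ly.x368.eq_def := @Cfsg.Spor.Ly.x368.eq_def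
theorem pre4_183 : type_of% @Cfsg.Spor.Ly.x368.congr_simp := @Cfsg.Spor.Ly.x368.congr_simp
theorem pre4_184 : type_of% @Cfsg.Spor.Ly.x169.eq_1 := @Cfsg.Spor.Ly.x169.eq_1
theorem pre4_185 : type_of% @Cfsg.Spor.Ly.x169.eq_def := @Cfsg.Spor.Ly.x169.eq_def
theorem pre4_186 : type_of% @Cfsg.Spor.Ly.x169.congr_simp := @Cfsg.Spor.Ly.x169.congr_simp
theorem pre4_187 : type_of% @Cfsg.Spor.Ly.x164.eq_1 := @Cfsg.Spor.Ly.x164.eq_1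
theorem pre4_188 : type_of% @Cfsg.Spor.Ly.x164.eq_def := @Cfsg.Spor.Ly.x164.eq_def
theorem pre4_189 : type_of% @Cfsg.Spor.Ly.x164.congr_simp := @Cfsg.Spor.Ly.x164.congr_simp
theorem pre4_190 : type_of% @Cfsg.Spor.Th.u.eq_1 := @Cfsg.Spor.Th.u.eq_1
theorem pre4_191 : type_of% @Cfsg.Spor.Th.u.eq_def := @Cfsg.Spor.Th.u.eq_def
theorem pre4_192 : type_of% @Cfsg.Spor.Th.u.congr_simp := @Cfsg.Spor.Th.u.congr_simp
theorem pre4_193 : type_of% @Cfsg.Spor.Th.t.eq_1 := @Cfsg.Spor.Th.t.eq_1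
theorem pre4_194 : type_of% @Cfsg.Spor.Th.t.eq_def := @Cfsg.Spor.Th.t.eq_def
theorem pre4_195 : type_of% @Cfsg.Spor.Th.t.congr_simp := @Cfsg.Spor.Th.t.congr_simp
theorem pre4_196 : type_of% @Cfsg.Spor.Th.a.eq_1 := @Cfsg.Spor.Th.a.eq_1
theorem pre4_197 : type_of% @Cfsg.Spor.Th.a.eq_def := @Cfsg.Spor.Th.a.eq_def
theorem pre4_198 : type_of% @Cfsg.Spor.Th.a.congr_simp := @Cfsg.Spor.Th.a.congr_simp
theorem pre4_199 : type_of% @Cfsg.Spor.Th.d.eq_1 := @Cfsg.Spor.Th.d.eq_1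
theorem pre4_200 : type_of% @Cfsg.Spor.Th.d.eq_def := @Cfsg.Spor.Th.d.eq_def
theorem pre4_201 : type_of% @Cfsg.Spor.Th.d.congr_simp := @Cfsg.Spor.Th.d.congr_simp
theorem pre4_202 : type_of% @Cfsg.Spor.Th.instDecidableEqGen.eq_1 := @Cfsg.Spor.Th.instDecidableEqGen.eq_1
theorem pre4_203 : type_of% @Cfsg.Spor.Th.instDecidableEqGen.eq_def := @Cfsg.Spor.Th.instDecidableEqGen.eq_def
theorem pre4_204 : type_of% @Cfsg.Spor.Th.instDecidableEqGen.congr_simp := @Cfsg.Spor.Th.instDecidableEqGen.congr_simp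
theorem pre4_205 : type_of% @Cfsg.Spor.Th.eq_1 := @Cfsg.Spor.Th.eq_1
theorem pre4_206 : type_of% @Cfsg.Spor.Th.eq_def := @Cfsg.Spor.Th.eq_def
theorem pre4_207 : type_of% @Cfsg.Spor.Th.congr_simp := @Cfsg.Spor.Th.congr_simp
theorem pre4_208 : type_of% @Cfsg.Spor.IsoTh.eq_1 := @Cfsg.Spor.IsoTh.eq_1
theorem pre4_209 : type_of% @Cfsg.Spor.IsoTh.eq_def := @Cfsg.Spor.IsoTh.eq_def
theorem pre4_210 : type_of% @Cfsg.Spor.IsoTh.congr_simp := @Cfsg.Spor.IsoTh.congr_simp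
theorem pre4_211 : type_of% @Cfsg.Spor.Th.s.eq_1 := @Cfsg.Spor.Th.s.eq_1
theorem pre4_212 : type_of% @Cfsg.Spor.Th.s.eq_def := @Cfsg.Spor.Th.s.eq_def
theorem pre4_213 : type_of% @Cfsg.Spor.Th.s.congr_simp := @Cfsg.Spor.Th.s.congr_simp
theorem pre4_214 : type_of% @Cfsg.Spor.Th.e.eq_1 := @Cfsg.Spor.Th.e.eq_1
theorem pre4_215 : type_of% @Cfsg.Spor.Th.e.eq_def := @Cfsg.Spor.Th.e.eq_def
theorem pre4_216 : type_of% @Cfsg.Spor.Th.e.congr_simp := @Cfsg.Spor.Th.e.congr_simp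
theorem pre4_217 : type_of% @Cfsg.Spor.Th.Gen.noConfusionType.eq_1 := @Cfsg.Spor.Th.Gen.noConfusionType.eq_1
theorem pre4_218 : type_of% @Cfsg.Spor.Th.Gen.noConfusionType.eq_def := @Cfsg.Spor.Th.Gen.noConfusionType.eq_def
theorem pre4_219 : type_of% @Cfsg.Spor.Th.Gen.noConfusionType.congr_simp := @Cfsg.Spor.Th.Gen.noConfusionType.congr_simp
theorem pre4_220 : type_of% @Cfsg.Spor.Th.Gen.ctorIdx.eq_1 := @Cfsg.Spor.Th.Gen.ctorIdx.eq_1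
theorem pre4_221 : type_of% @Cfsg.Spor.Th.Gen.ctorIdx.eq_def := @Cfsg.Spor.Th.Gen.ctorIdx.eq_def
theorem pre4_222 : type_of% @Cfsg.Spor.Th.Gen.ctorIdx.congr_simp := @Cfsg.Spor.Th.Gen.ctorIdx.congr_simp
theorem pre4_223 : type_of% @Cfsg.Spor.Th.c.eq_1 := @Cfsg.Spor.Th.c.eq_1
theorem pre4_224 : type_of% @Cfsg.Spor.Th.c.eq_def := @Cfsg.Spor.Th.c.eq_def
theorem pre4_225 : type_of% @Cfsg.Spor.Th.c.congr_simp := @Cfsg.Spor.Th.c.congr_simp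
theorem pre4_226 : type_of% @Cfsg.Spor.Th.Gen.toCtorIdx.eq_1 := @Cfsg.Spor.Th.Gen.toCtorIdx.eq_1
theorem pre4_227 : type_of% @Cfsg.Spor.Th.Gen.toCtorIdx.eq_def := @Cfsg.Spor.Th.Gen.toCtorIdx.eq_def
theorem pre4_228 : type_of% @Cfsg.Spor.Th.Gen.toCtorIdx.congr_simp := @Cfsg.Spor.Th.Gen.toCtorIdx.congr_simp
theorem pre4_229 : type_of% @Cfsg.Spor.Th.Gen.ofNat.eq_1 := @Cfsg.Spor.Th.Gen.ofNat.eq_1
theorem pre4_230 : type_of% @Cfsg.Spor.Th.Gen.ofNat.eq_def := @Cfsg.Spor.Th.Gen.ofNat.eq_def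
theorem pre4_231 : type_of% @Cfsg.Spor.Th.Gen.ofNat.congr_simp := @Cfsg.Spor.Th.Gen.ofNat.congr_simp
theorem pre4_232 : type_of% @Cfsg.Spor.Th.edges.eq_1 := @Cfsg.Spor.Th.edges.eq_1
theorem pre4_233 : type_of% @Cfsg.Spor.Th.edges.eq_def := @Cfsg.Spor.Th.edges.eq_def
theorem pre4_234 : type_of% @Cfsg.Spor.Th.edges.congr_simp := @Cfsg.Spor.Th.edges.congr_simp
theorem pre4_235 : type_of% @Cfsg.Spor.Th.extra.eq_1 := @Cfsg.Spor.Th.extra.eq_1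
theorem pre4_236 : type_of% @Cfsg.Spor.Th.extra.eq_def := @Cfsg.Spor.Th.extra.eq_def
theorem pre4_237 : type_of% @Cfsg.Spor.Th.extra.congr_simp := @Cfsg.Spor.Th.extra.congr_simp
theorem pre4_238 : type_of% @Cfsg.Spor.Th.Gen.ctorElimType.eq_1 := @Cfsg.Spor.Th.Gen.ctorElimType.eq_1
theorem pre4_239 : type_of% @Cfsg.Spor.Th.Gen.ctorElimType.eq_def := @Cfsg.Spor.Th.Gen.ctorElimType.eq_def
theorem pre4_240 : type_of% @Cfsg.Spor.Th.Gen.ctorElimType.congr_simp := @Cfsg.Spor.Th.Gen.ctorElimType.congr_simp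
theorem pre4_241 : type_of% @Cfsg.Spor.Th.b.eq_1 := @Cfsg.Spor.Th.b.eq_1
theorem pre4_242 : type_of% @Cfsg.Spor.Th.b.eq_def := @Cfsg.Spor.Th.b.eq_def
theorem pre4_243 : type_of% @Cfsg.Spor.Th.b.congr_simp := @Cfsg.Spor.Th.b.congr_simp
theorem pre4_244 : type_of% @Cfsg.Spor.J4.t.eq_1 := @Cfsg.Spor.J4.t.eq_1
theorem pre4_245 : type_of% @Cfsg.Spor.J4.t.eq_def := @Cfsg.Spor.J4.t.eq_def
theorem pre4_246 : type_of% @Cfsg.Spor.J4.t.congr_simp := @Cfsg.Spor.J4.t.congr_simp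
theorem pre4_247 : type_of% @Cfsg.Spor.J4.Gen.ctorElimType.eq_1 := @Cfsg.Spor.J4.Gen.ctorElimType.eq_1
theorem pre4_248 : type_of% @Cfsg.Spor.J4.Gen.ctorElimType.eq_def := @Cfsg.Spor.J4.Gen.ctorElimType.eq_def
theorem pre4_249 : type_of% @Cfsg.Spor.J4.Gen.ctorElimType.congr_simp := @Cfsg.Spor.J4.Gen.ctorElimType.congr_simp
theorem pre4_250 : type_of% @Cfsg.Spor.J4.x.eq_1 := @Cfsg.Spor.J4.x.eq_1
theorem pre4_251 : type_of% @Cfsg.Spor.J4.x.eq_def := @Cfsg.Spor.J4.x.eq_def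
theorem pre4_252 : type_of% @Cfsg.Spor.J4.x.congr_simp := @Cfsg.Spor.J4.x.congr_simp
theorem pre4_253 : type_of% @Cfsg.Spor.J4.Gen.noConfusionType.eq_1 := @Cfsg.Spor.J4.Gen.noConfusionType.eq_1
theorem pre4_254 : type_of% @Cfsg.Spor.J4.Gen.noConfusionType.eq_def := @Cfsg.Spor.J4.Gen.noConfusionType.eq_def
theorem pre4_255 : type_of% @Cfsg.Spor.J4.Gen.noConfusionType.congr_simp := @Cfsg.Spor.J4.Gen.noConfusionType.congr_simp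
theorem pre4_256 : type_of% @Cfsg.Spor.J4.Gen.ctorIdx.eq_1 := @Cfsg.Spor.J4.Gen.ctorIdx.eq_1
theorem pre4_257 : type_of% @Cfsg.Spor.J4.Gen.ctorIdx.eq_def := @Cfsg.Spor.J4.Gen.ctorIdx.eq_def
theorem pre4_258 : type_of% @Cfsg.Spor.J4.Gen.ctorIdx.congr_simp := @Cfsg.Spor.J4.Gen.ctorIdx.congr_simp
theorem pre4_259 : type_of% @Cfsg.Spor.IsoJ4.eq_1 := @Cfsg.Spor.IsoJ4.eq_1
theorem pre4_260 : type_of% @Cfsg.Spor.IsoJ4.eq_def := @Cfsg.Spor.IsoJ4.eq_def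
theorem pre4_261 : type_of% @Cfsg.Spor.IsoJ4.congr_simp := @Cfsg.Spor.IsoJ4.congr_simp
theorem pre4_262 : type_of% @Cfsg.Spor.J4.extra.eq_1 := @Cfsg.Spor.J4.extra.eq_1
theorem pre4_263 : type_of% @Cfsg.Spor.J4.extra.eq_def := @Cfsg.Spor.J4.extra.eq_def
theorem pre4_264 : type_of% @Cfsg.Spor.J4.extra.congr_simp := @Cfsg.Spor.J4.extra.congr_simp
theorem pre4_265 : type_of% @Cfsg.Spor.J4.edges.eq_1 := @Cfsg.Spor.J4.edges.eq_1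
theorem pre4_266 : type_of% @Cfsg.Spor.J4.edges.eq_def := @Cfsg.Spor.J4.edges.eq_def
theorem pre4_267 : type_of% @Cfsg.Spor.J4.edges.congr_simp := @Cfsg.Spor.J4.edges.congr_simp
theorem pre4_268 : type_of% @Cfsg.Spor.J4.Gen.toCtorIdx.eq_1 := @Cfsg.Spor.J4.Gen.toCtorIdx.eq_1
theorem pre4_269 : type_of% @Cfsg.Spor.J4.Gen.toCtorIdx.eq_def := @Cfsg.Spor.J4.Gen.toCtorIdx.eq_def
theorem pre4_270 : type_of% @Cfsg.Spor.J4.Gen.toCtorIdx.congr_simp := @Cfsg.Spor.J4.Gen.toCtorIdx.congr_simp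
theorem pre4_271 : type_of% @Cfsg.Spor.J4.Gen.ofNat.eq_1 := @Cfsg.Spor.J4.Gen.ofNat.eq_1
theorem pre4_272 : type_of% @Cfsg.Spor.J4.Gen.ofNat.eq_def := @Cfsg.Spor.J4.Gen.ofNat.eq_def
theorem pre4_273 : type_of% @Cfsg.Spor.J4.Gen.ofNat.congr_simp := @Cfsg.Spor.J4.Gen.ofNat.congr_simp
theorem pre4_274 : type_of% @Cfsg.Spor.J4.y.eq_1 := @Cfsg.Spor.J4.y.eq_1
theorem pre4_275 : type_of% @Cfsg.Spor.J4.y.eq_def := @Cfsg.Spor.J4.y.eq_def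
theorem pre4_276 : type_of% @Cfsg.Spor.J4.y.congr_simp := @Cfsg.Spor.J4.y.congr_simp
theorem pre4_277 : type_of% @Cfsg.Spor.J4.eq_1 := @Cfsg.Spor.J4.eq_1
theorem pre4_278 : type_of% @Cfsg.Spor.J4.eq_def := @Cfsg.Spor.J4.eq_def
theorem pre4_279 : type_of% @Cfsg.Spor.J4.congr_simp := @Cfsg.Spor.J4.congr_simp
theorem pre4_280 : type_of% @Cfsg.Spor.J4.instDecidableEqGen.eq_1 := @Cfsg.Spor.J4.instDecidableEqGen.eq_1
theorem pre4_281 : type_of% @Cfsg.Spor.J4.instDecidableEqGen.eq_def := @Cfsg.Spor.J4.instDecidableEqGen.eq_def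
theorem pre4_282 : type_of% @Cfsg.Spor.J4.instDecidableEqGen.congr_simp := @Cfsg.Spor.J4.instDecidableEqGen.congr_simp
theorem pre4_283 : type_of% @Cfsg.pPrimeCore.eq_1 := @Cfsg.pPrimeCore.eq_1
theorem pre4_284 : type_of% @Cfsg.pPrimeCore.eq_def := @Cfsg.pPrimeCore.eq_def
theorem pre4_285 : type_of% @Cfsg.pPrimeCore.congr_simp := @Cfsg.pPrimeCore.congr_simp
theorem pre4_286 : type_of% @Cfsg.fittingSubgroup.eq_1 := @Cfsg.fittingSubgroup.eq_1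
theorem pre4_287 : type_of% @Cfsg.fittingSubgroup.eq_def := @Cfsg.fittingSubgroup.eq_def
theorem pre4_288 : type_of% @Cfsg.fittingSubgroup.congr_simp := @Cfsg.fittingSubgroup.congr_simp
theorem pre4_289 : type_of% @Cfsg.frobeniusKernel.eq_1 := @Cfsg.frobeniusKernel.eq_1
theorem pre4_290 : type_of% @Cfsg.frobeniusKernel.eq_def := @Cfsg.frobeniusKernel.eq_def
theorem pre4_291 : type_of% @Cfsg.frobeniusKernel.congr_simp := @Cfsg.frobeniusKernel.congr_simp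
theorem pre4_292 : type_of% @Cfsg.pCore.eq_1 := @Cfsg.pCore.eq_1
theorem pre4_293 : type_of% @Cfsg.pCore.eq_def := @Cfsg.pCore.eq_def
theorem pre4_294 : type_of% @Cfsg.pCore.congr_simp := @Cfsg.pCore.congr_simp
theorem pre4_295 : type_of% @Cfsg.IsFrobeniusComplement.eq_1 := @Cfsg.IsFrobeniusComplement.eq_1
theorem pre4_296 : type_of% @Cfsg.IsFrobeniusComplement.eq_def := @Cfsg.IsFrobeniusComplement.eq_def
theorem pre4_297 : type_of% @Cfsg.IsFrobeniusComplement.congr_simp := @Cfsg.IsFrobeniusComplement.congr_simp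
theorem pre4_298 : type_of% @Cfsg.IsF4.eq_1 := @Cfsg.IsF4.eq_1
theorem pre4_299 : type_of% @Cfsg.IsF4.eq_def := @Cfsg.IsF4.eq_def
theorem pre4_300 : type_of% @Cfsg.IsF4.congr_simp := @Cfsg.IsF4.congr_simp
theorem pre4_301 : type_of% @Cfsg.Is2E6.eq_1 := @Cfsg.Is2E6.eq_1
theorem pre4_302 : type_of% @Cfsg.Is2E6.eq_def := @Cfsg.Is2E6.eq_def
theorem pre4_303 : type_of% @Cfsg.Is2E6.congr_simp := @Cfsg.Is2E6.congr_simp
theorem pre4_304 : type_of% @Cfsg.IsDOrder.eq_1 := @Cfsg.IsDOrder.eq_1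
theorem pre4_305 : type_of% @Cfsg.IsDOrder.eq_def := @Cfsg.IsDOrder.eq_def
theorem pre4_306 : type_of% @Cfsg.IsDOrder.congr_simp := @Cfsg.IsDOrder.congr_simp
theorem pre4_307 : type_of% @Cfsg.IsE6.eq_1 := @Cfsg.IsE6.eq_1
theorem pre4_308 : type_of% @Cfsg.IsE6.eq_def := @Cfsg.IsE6.eq_def
theorem pre4_309 : type_of% @Cfsg.IsE6.congr_simp := @Cfsg.IsE6.congr_simp
theorem pre4_310 : type_of% @Cfsg.IsE7.eq_1 := @Cfsg.IsE7.eq_1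
theorem pre4_311 : type_of% @Cfsg.IsE7.eq_def := @Cfsg.IsE7.eq_def
theorem pre4_312 : type_of% @Cfsg.IsE7.congr_simp := @Cfsg.IsE7.congr_simp
theorem pre4_313 : type_of% @Cfsg.IsTits.eq_1 := @Cfsg.IsTits.eq_1
theorem pre4_314 : type_of% @Cfsg.IsTits.eq_def := @Cfsg.IsTits.eq_def
theorem pre4_315 : type_of% @Cfsg.IsTits.congr_simp := @Cfsg.IsTits.congr_simp
theorem pre4_316 : type_of% @Cfsg.Is3D4.eq_1 := @Cfsg.Is3D4.eq_1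
theorem pre4_317 : type_of% @Cfsg.Is3D4.eq_def := @Cfsg.Is3D4.eq_def
theorem pre4_318 : type_of% @Cfsg.Is3D4.congr_simp := @Cfsg.Is3D4.congr_simp
theorem pre4_319 : type_of% @Cfsg.IsSuzuki.eq_1 := @Cfsg.IsSuzuki.eq_1
theorem pre4_320 : type_of% @Cfsg.IsSuzuki.eq_def := @Cfsg.IsSuzuki.eq_def
theorem pre4_321 : type_of% @Cfsg.IsSuzuki.congr_simp := @Cfsg.IsSuzuki.congr_simp
theorem pre4_322 : type_of% @Cfsg.IsBOrder.eq_1 := @Cfsg.IsBOrder.eq_1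
theorem pre4_323 : type_of% @Cfsg.IsBOrder.eq_def := @Cfsg.IsBOrder.eq_def
theorem pre4_324 : type_of% @Cfsg.IsBOrder.congr_simp := @Cfsg.IsBOrder.congr_simp
theorem pre4_325 : type_of% @Cfsg.Is2DOrder.eq_1 := @Cfsg.Is2DOrder.eq_1
theorem pre4_326 : type_of% @Cfsg.Is2DOrder.eq_def := @Cfsg.Is2DOrder.eq_def
theorem pre4_327 : type_of% @Cfsg.Is2DOrder.congr_simp := @Cfsg.Is2DOrder.congr_simp
theorem pre4_328 : type_of% @Cfsg.IsLargeRee.eq_1 := @Cfsg.IsLargeRee.eq_1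
theorem pre4_329 : type_of% @Cfsg.IsLargeRee.eq_def := @Cfsg.IsLargeRee.eq_def
theorem pre4_330 : type_of% @Cfsg.IsLargeRee.congr_simp := @Cfsg.IsLargeRee.congr_simp
theorem pre4_331 : type_of% @Cfsg.IsE8.eq_1 := @Cfsg.IsE8.eq_1
theorem pre4_332 : type_of% @Cfsg.IsE8.eq_def := @Cfsg.IsE8.eq_def
theorem pre4_333 : type_of% @Cfsg.IsE8.congr_simp := @Cfsg.IsE8.congr_simp
theorem pre4_334 : type_of% @Cfsg.IsG2.eq_1 := @Cfsg.IsG2.eq_1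
theorem pre4_335 : type_of% @Cfsg.IsG2.eq_def := @Cfsg.IsG2.eq_def
theorem pre4_336 : type_of% @Cfsg.IsG2.congr_simp := @Cfsg.IsG2.congr_simp
theorem pre4_337 : type_of% @Cfsg.IsRee.eq_1 := @Cfsg.IsRee.eq_1
theorem pre4_338 : type_of% @Cfsg.IsRee.eq_def := @Cfsg.IsRee.eq_def
theorem pre4_339 : type_of% @Cfsg.IsRee.congr_simp := @Cfsg.IsRee.congr_simp
end CfOD
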