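import Mathlib
import Cfsg.Agent.OD.Pre1
import Cfsg.Agent.OD.Pre2
import Cfsg.Agent.OD.Pre3
import Cfsg.Agent.OD.Pre4
import Cfsg.Agent.OD.Pre5
import Cfsg.Agent.OD.Pre6
import Cfsg.Agent.OD.Pre7
import Cfsg.Agent.OD.Pre8
/-! Import this file first in every file: all of Mathlib, the definition modules, and their on-demand lemmas. -/
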