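import Mathlib
import Cfsg.Agent.H4.D8C
/-! Unique holder of lemmas Lean writes on demand. -/
set_option linter.all false
namespace CfOD
theorem Helper4xede4ec3c43_0 : type_of% @CfH4.d8c3_rels.eq_1 := @CfH4.d8c3_rels.eq_1
theorem Helper4xede4ec3c43_1 : type_of% @CfH4.d8c3_subs.eq_1 := @CfH4.d8c3_subs.eq_1
theorem Helper4xede4ec3c43_2 : type_of% @CfH4.d8c4_rels.eq_1 := @CfH4.d8c4_rels.eq_1
theorem Helper4xede4ec3c43_3 : type_of% @CfH4.d8c4_subs.eq_1 := @CfH4.d8c4_subs.eq_1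
theorem Helper4xede4ec3c43_4 : type_of% @CfH4.d8c5_rels.eq_1 := @CfH4.d8c5_rels.eq_1
theorem Helper4xede4ec3c43_5 : type_of% @CfH4.d8c5_subs.eq_1 := @CfH4.d8c5_subs.eq_1
end CfOD
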