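import Mathlib
import Cfsg.Agent.L.BB
/-! Unique holder of lemmas Lean writes on demand. -/
set_option linter.all false
namespace CfOD
theorem Leadx2918e7ea36_0 : type_of% @CfL.Pl.Cfg.J.congr_simp := @CfL.Pl.Cfg.J.congr_simp
theorem Leadx2918e7ea36_1 : type_of% @CfL.Pl.Cfg.V1.eq_1 := @CfL.Pl.Cfg.V1.eq_1
theorem Leadx2918e7ea36_2 : type_of% @CfL.Pl.Cfg.V2.eq_1 := @CfL.Pl.Cfg.V2.eq_1
theorem Leadx2918e7ea36_3 : type_of% @CfL.Pl.Cfg.Z.congr_simp := @CfL.Pl.Cfg.Z.congr_simp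
end CfOD
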