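import Mathlib
/-! Unique holder of lemmas Lean writes on demand. -/
set_option linter.all false
namespace CfOD
theorem Helper5x42f6e07c5a_0 : type_of% @AddMonoidHom.mk.hcongr_6 := @AddMonoidHom.mk.hcongr_6
end CfOD
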